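import Mathlib
import Cfsg.Agent.H77.HN.Chain

/-!
Faster checks of levels and chains, with a lazily unpacked word format.
-/

set_option autoImplicit false

namespace H94.J4

open H77.HN (frc runK levelCheck chainCheck chainOrd unpack unpackAux)

/-- unpack a word of at most `f` letters -/
noncomputable def unpK (f : ℕ) : ℕ → List ℕ :=
  Nat.rec (motive := fun _ => ℕ → List ℕ) (fun _ => [])
    (fun _ ih c => bif Nat.beq c 0 then [] else (c % 512 - 1) :: frc (c / 512) ih) f

/-- pack a word -/
def packW : List ℕ → ℕ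
  | [] => 0
  | l :: w => packW w * 512 + (l + 1)

theorem unpackAux_packW : ∀ (w : List ℕ) (f : ℕ), w.length ≤ f → (∀ l ∈ w, l < 511) →
    unpackAux f (packW w) = w := by
  intro w
  induction w with
  | nil => intro f _ _; cases f <;> simp [unpackAux, packW]
  | cons l w ih =>
    intro f hf hl
    simp only [List.mem_cons, forall_eq_or_imp] at hl
    obtain ⟨g, rfl⟩ : ∃ g, f = g + 1 := ⟨f - 1, by simp at hf; omega⟩
    have hd : packW (l :: w) / 512 = packW w := by simp only [packW]; omega
    have hm : packW (l :: w) % 512 - 1 = l := by simp only [packW]; omega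
    have h0 : packW (l :: w) ≠ 0 := by simp only [packW]; omega
    rw [unpackAux, if_neg h0, hd, hm, ih g (by simpa using hf) hl.2]

/-- the words are short, fix the earlier points and move `b` to increasing places in a range -/
noncomputable def levelR (T : ℕ → ℕ → ℕ) (letters pre : List ℕ) (b : ℕ) :
    List (List ℕ) → ℕ → ℕ → Bool :=
  List.rec (motive := fun _ => ℕ → ℕ → Bool) (fun lo hi => Nat.ble lo hi)
    (fun w _ ih lo hi =>
      Nat.ble w.length 1000 && (w.all fun l => letters.contains l && Nat.blt l 511) &&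
        (pre.all fun p => Nat.beq (runK T w p) p) &&
        frc (runK T w b) fun v => Nat.ble lo v && ih (v + 1) hi)

theorem levelR_cons (T : ℕ → ℕ → ℕ) (letters pre : List ℕ) (b : ℕ) (w : List ℕ)
    (ws : List (List ℕ)) (lo hi : ℕ) : levelR T letters pre b (w :: ws) lo hi =
      (Nat.ble w.length 1000 && (w.all fun l => letters.contains l && Nat.blt l 511) &&
        (pre.all fun p => Nat.beq (runK T w p) p) &&
        frc (runK T w b) fun v => Nat.ble lo v && levelR T letters pre b ws (v + 1) hi) := rfl

theorem levelR_mono {T : ℕ → ℕ → ℕ} {letters pre : List ℕ} {b : ℕ} :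
    ∀ {ws : List (List ℕ)} {lo hi : ℕ}, levelR T letters pre b ws lo hi = true →
      levelCheck T letters pre b (ws.map packW) lo = true ∧
        ∀ {ws' : List (List ℕ)} {hi' : ℕ}, levelR T letters pre b ws' hi hi' = true →
          levelR T letters pre b (ws ++ ws') lo hi' = true := by
  intro ws
  induction ws with
  | nil =>
    intro lo hi h
    refine ⟨rfl, fun {ws'} {hi'} h' => ?_⟩
    have hle : lo ≤ hi := Nat.ble_eq.mp h
    cases ws' with
    | nil => exact Nat.ble_eq.mpr (hle.trans (Nat.ble_eq.mp h'))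
    | cons w ws' =>
      simp only [levelR_cons, H77.HN.frc_eq, Bool.and_eq_true, Nat.ble_eq, List.nil_append] at h' ⊢
      exact ⟨h'.1, hle.trans h'.2.1, h'.2.2⟩
  | cons w ws ih =>
    intro lo hi h
    simp only [levelR_cons, H77.HN.frc_eq, Bool.and_eq_true, List.all_eq_true, Nat.ble_eq,
      Nat.blt] at h
    obtain ⟨⟨⟨h1, h2⟩, h3⟩, h4, h5⟩ := h
    obtain ⟨i1, i2⟩ := ih (lo := runK T w b + 1) (hi := hi) h5
    have e : unpack (packW w) = w :=
      unpackAux_packW w 1000 h1 fun l hl => by have := (h2 l hl).2; omega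
    refine ⟨?_, fun {ws'} {hi'} h' => ?_⟩
    · simp only [List.map_cons, levelCheck, e, H77.HN.frc_eq, Bool.and_eq_true, List.all_eq_true,
        Nat.ble_eq]
      exact ⟨⟨fun l hl => (h2 l hl).1, h3⟩, h4, i1⟩
    · simp only [List.cons_append, levelR_cons, H77.HN.frc_eq, Bool.and_eq_true, List.all_eq_true,
        Nat.ble_eq, Nat.blt]
      exact ⟨⟨⟨h1, h2⟩, h3⟩, h4, i2 h'⟩

/-- the words of a level -/
noncomputable def wordsOf (cs : List ℕ) : List (List ℕ) := cs.map (unpK 100)

/-- the levels with the words in the format of the chains -/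
noncomputable def conv (ls : List (ℕ × List ℕ)) : List (ℕ × List ℕ) :=
  ls.map fun p => (p.1, (wordsOf p.2).map packW)

/-- all levels, with the base points below a bound -/
noncomputable def chainR (T : ℕ → ℕ → ℕ) (letters : List ℕ) (np : ℕ) :
    List ℕ → List (ℕ × List ℕ) → Bool
  | _, [] => true
  | pre, (b, cs) :: ls => Nat.blt b np && levelR T letters pre b (wordsOf cs) 0 np &&
      chainR T letters np (pre ++ [b]) ls

theorem chainR_spec {T : ℕ → ℕ → ℕ} {letters : List ℕ} {np : ℕ} :
    ∀ {ls : List (ℕ × List ℕ)} {pre : List ℕ}, chainR T letters np pre ls = true →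
      chainCheck T letters pre (conv ls) = true ∧ ∀ p ∈ conv ls, p.1 < np := by
  intro ls
  induction ls with
  | nil => intro pre _; exact ⟨rfl, by simp [conv]⟩
  | cons p ls ih =>
    intro pre h
    obtain ⟨b, cs⟩ := p
    simp only [chainR, Bool.and_eq_true, Nat.blt, Nat.ble_eq] at h
    obtain ⟨⟨hb, hl⟩, hr⟩ := h
    obtain ⟨i1, i2⟩ := ih hr
    refine ⟨?_, fun q hq => ?_⟩
    · simp only [conv, List.map_cons, chainCheck, Bool.and_eq_true]
      exact ⟨(levelR_mono hl).1, i1⟩
    · simp only [conv, List.map_cons, List.mem_cons] at hq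
      rcases hq with rfl | hq
      · exact hb
      · exact i2 q hq

/-- the product of the orbit lengths -/
def ordR : List (ℕ × List ℕ) → ℕ
  | [] => 1
  | (_, cs) :: ls => cs.length * ordR ls

theorem ordR_eq : ∀ ls, chainOrd (conv ls) = ordR ls := by
  intro ls
  induction ls with
  | nil => rfl
  | cons p ls ih =>
    obtain ⟨b, cs⟩ := p
    simp only [conv, List.map_cons, chainOrd, ordR, List.length_map, wordsOf] at ih ⊢
    rw [ih]

end H94.J4
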