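import Mathlib
import Cfsg.Agent.H23.DC.Bound

/-!
Further steps for certificates of double coset enumerations in which the further generator is an
involution: reversed edges, inverse letters, and transport of a stabiliser along an edge.
-/

set_option autoImplicit false

namespace H94.J4

open H77.HN (evw agree)
open H23.DC

/-- a step -/
inductive Rule where
  | ded (d : Ded)
  /-- `l'` is inverse to a letter fixing a base coset -/
  | inv (i l l' : ℕ)
  /-- an element of the stabiliser is carried along an edge -/
  | loop (j e k : ℕ) (h s : List ℕ)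
  /-- `k'` reverses `k` -/
  | rev (k' k : ℕ)

/-- check one step -/
noncomputable def ruleOne (D : Cert) (K : Known) : Rule → Option Known
  | .ded d => D.dedOne K d
  | .inv i l l' =>
    bif (K.fix i).contains l && agree D.T D.B [l', l] [] then
      some ⟨(i, l') :: K.stabs, K.edges⟩ else none
  | .loop j e k h s =>
    bif decide (k < D.ne ∧ D.dst k = j) && K.hasEdge k && h.all (fun l => D.hl.contains l) &&
        s.all (fun l => (K.fix (D.src k)).contains l) &&
        agree D.T D.B (D.nw k ++ h) (s ++ D.nw k) &&
        agree D.T D.B (e :: D.mw k) (D.mw k ++ h.map D.phi) then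
      some ⟨(j, e) :: K.stabs, K.edges⟩ else none
  | .rev k' k =>
    bif decide (k' < D.ne ∧ D.src k' = D.dst k ∧ D.dst k' = D.src k) && K.hasEdge k &&
        agree D.T D.B (D.nw k') (D.mw k) && agree D.T D.B (D.mw k') (D.nw k) then
      some ⟨K.stabs, k' :: K.edges⟩ else none

/-- check a list of steps -/
noncomputable def ruleAll (D : Cert) : Known → List Rule → Option Known
  | K, [] => some K
  | K, d :: ds => match ruleOne D K d with
    | none => none
    | some K' => ruleAll D K' ds

/-- the checked list ends in a known state -/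
noncomputable def rulesTo (D : Cert) (K : Known) (ds : List Rule) (K' : Known) : Bool :=
  decide (ruleAll D K ds = some K')

variable {N : Type*} [Group N] {E : Setting N} {G : Type*} [Group G] (A : Amalgam E G)

theorem ruleOne_sound (hgt : A.gt * A.gt = 1) {tl : List ℕ} {K K' : Known} (hK : A.Valid tl K)
    (d : Rule) (h : ruleOne E.D K d = some K') : A.Valid tl K' := by
  cases d with
  | ded d => exact A.dedOne_sound hK d h
  | inv i l l' =>
    simp only [ruleOne, Bool.cond_eq_ite, Option.ite_none_right_eq_some, Option.some.injEq] at h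
    obtain ⟨hc, rfl⟩ := h
    simp only [Bool.and_eq_true, List.contains_iff_mem] at hc
    refine ⟨fun p hp => ?_, hK.2⟩
    rcases List.mem_cons.mp hp with rfl | hp
    · have hfix := A.fix_mem hK (i := i) (s := [l]) (by simpa using hc.1)
      have he := E.eq_of_agree hc.2
      simp only [Setting.e, H77.HN.evw_cons, H77.HN.evw_nil, one_mul] at he hfix
      rw [eq_inv_of_mul_eq_one_right he, map_inv]
      exact (eq_inv_smul_iff.mpr hfix).symm
    · exact hK.1 p hp
  | loop j e k w s =>
    simp only [ruleOne, Bool.cond_eq_ite, Option.ite_none_right_eq_some, Option.some.injEq] at h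
    obtain ⟨hc, rfl⟩ := h
    simp only [Bool.and_eq_true, decide_eq_true_eq, Known.hasEdge, List.contains_iff_mem,
      List.all_eq_true] at hc
    obtain ⟨⟨⟨⟨⟨⟨-, rfl⟩, he⟩, hh⟩, hs⟩, ha1⟩, ha2⟩ := hc
    refine ⟨fun p hp => ?_, hK.2⟩
    rcases List.mem_cons.mp hp with rfl | hp
    · have h1 := E.eq_of_agree ha1
      have h2 := E.eq_of_agree ha2
      simp only [Setting.e, H77.HN.evw_append, H77.HN.evw_cons] at h1 h2
      obtain ⟨-, hedge⟩ := hK.2 k he
      have hfix := A.fix_mem hK hs
      have key : A.ι (E.e (E.D.mw k) * E.gen e) • A.q tl (E.D.dst k) =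
          A.ι (E.e (E.D.mw k)) • A.q tl (E.D.dst k) := by
        rw [Setting.e, h2, map_mul, mul_smul, ← hedge, smul_smul, ← mul_assoc, ← A.twist_word w hh,
          mul_assoc, ← map_mul, h1, map_mul, ← mul_assoc, mul_smul, hfix]
      rw [map_mul, mul_smul] at key
      exact smul_left_cancel _ key
    · exact hK.1 p hp
  | rev k' k =>
    simp only [ruleOne, Bool.cond_eq_ite, Option.ite_none_right_eq_some, Option.some.injEq] at h
    obtain ⟨hc, rfl⟩ := h
    simp only [Bool.and_eq_true, decide_eq_true_eq, Known.hasEdge, List.contains_iff_mem] at hc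
    obtain ⟨⟨⟨⟨hk', hs, hd⟩, he⟩, ha1⟩, ha2⟩ := hc
    refine ⟨hK.1, fun p hp => ?_⟩
    rcases List.mem_cons.mp hp with rfl | hp
    · refine ⟨hk', ?_⟩
      obtain ⟨-, hedge⟩ := hK.2 k he
      rw [hs, hd, E.eq_of_agree ha1, E.eq_of_agree ha2, mul_smul, ← hedge, smul_smul, ← mul_assoc,
        hgt, one_mul]
    · exact hK.2 p hp

theorem ruleAll_sound (hgt : A.gt * A.gt = 1) {tl : List ℕ} : ∀ (ds : List Rule) {K K' : Known},
    A.Valid tl K → ruleAll E.D K ds = some K' → A.Valid tl K' := by
  intro ds
  induction ds with
  | nil => intro K K' hK h; simp only [ruleAll, Option.some.injEq] at h; exact h ▸ hK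
  | cons d ds ih =>
    intro K K' hK h
    simp only [ruleAll] at h
    cases hd : ruleOne E.D K d <;> rw [hd] at h
    · exact absurd h (by simp)
    · exact ih (ruleOne_sound A hgt hK d hd) h

theorem rulesTo_sound (hgt : A.gt * A.gt = 1) {tl : List ℕ} {ds : List Rule} {K K' : Known}
    (hK : A.Valid tl K) (h : rulesTo E.D K ds K' = true) : A.Valid tl K' :=
  ruleAll_sound A hgt ds hK (of_decide_eq_true h)

end H94.J4
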