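import Cfsg.Agent.H94.J4.Tables
import Cfsg.Agent.H94.J4.Data.Deds

/-! The deductions hold. -/

set_option autoImplicit false
set_option maxRecDepth 100000

namespace H94.J4

theorem start_ok : H23.DC.Cert.init Data.l0 Data.treeList = Data.known0 := by decide +kernel

theorem tree_shape : cert.treeShape Data.treeList = true := by decide +kernel

theorem roots_ok : cert.rootsOK = true := by decide +kernel

theorem rules0_ok : rulesTo cert Data.known0 Data.rules0 Data.known1 = true := by decide +kernel

theorem rules1_ok : rulesTo cert Data.known1 Data.rules1 Data.known2 = true := by decide +kernel

theorem rules2_ok : rulesTo cert Data.known2 Data.rules2 Data.known3 = true := by decide +kernel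

theorem rules3_ok : rulesTo cert Data.known3 Data.rules3 Data.known4 = true := by decide +kernel

theorem rules4_ok : rulesTo cert Data.known4 Data.rules4 Data.known5 = true := by decide +kernel

theorem rules5_ok : rulesTo cert Data.known5 Data.rules5 Data.known6 = true := by decide +kernel

theorem rules6_ok : rulesTo cert Data.known6 Data.rules6 Data.known7 = true := by decide +kernel

theorem rules7_ok : rulesTo cert Data.known7 Data.rules7 Data.known8 = true := by decide +kernel

theorem rules8_ok : rulesTo cert Data.known8 Data.rules8 Data.known9 = true := by decide +kernel

theorem rules9_ok : rulesTo cert Data.known9 Data.rules9 Data.known10 = true := by decide +kernel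

theorem done_ok : cert.done Data.known10 = true := by decide +kernel

end H94.J4
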