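import Mathlib

/-!
Homomorphisms from an elementary abelian group of order `2^11`, given by bit masks.
-/

set_option autoImplicit false

namespace H94.J4

/-- the elementary abelian group -/
abbrev VV : Type := Multiplicative (Fin 11 → ZMod 2)

/-- the vector of a mask -/
def vec (m : ℕ) : VV := Multiplicative.ofAdd fun j : Fin 11 => if m.testBit (j : ℕ) then 1 else 0

theorem vec_xor (a b : ℕ) : vec (a ^^^ b) = vec a * vec b := by
  refine Multiplicative.toAdd.injective (funext fun j => ?_)
  simp only [vec, toAdd_mul, toAdd_ofAdd, Pi.add_apply, Nat.testBit_xor]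
  cases a.testBit (j : ℕ) <;> cases b.testBit (j : ℕ) <;> decide

theorem vec_zero : vec 0 = 1 := by
  refine Multiplicative.toAdd.injective (funext fun j => ?_)
  simp [vec]

/-- the basis -/
def bv (j : Fin 11) : VV := Multiplicative.ofAdd (Pi.single j 1)

theorem vec_two_pow (j : Fin 11) : vec (2 ^ (j : ℕ)) = bv j := by
  refine Multiplicative.toAdd.injective (funext fun i => ?_)
  simp only [vec, bv, toAdd_ofAdd, Nat.testBit_two_pow, Pi.single_apply, Fin.ext_iff]
  by_cases h : (i : ℕ) = (j : ℕ)
  · simp [h]
  · simp [h, Ne.symm h]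

theorem bv_sq (j : Fin 11) : bv j * bv j = 1 := by
  rw [← vec_two_pow, ← vec_xor, Nat.xor_self, vec_zero]

variable {G : Type*} [Group G]

/-- the homomorphism from the group of order two -/
def zHom (g : G) (h : g * g = 1) : Multiplicative (ZMod 2) →* G where
  toFun a := g ^ a.toAdd.val
  map_one' := by simp
  map_mul' a b := by
    have h2 : g ^ 2 = 1 := by rw [pow_two, h]
    rw [← pow_add, toAdd_mul, ZMod.val_add]
    exact (pow_eq_pow_mod _ h2).symm

theorem zHom_ofAdd_one (g : G) (h : g * g = 1) : zHom g h (Multiplicative.ofAdd 1) = g := by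
  show g ^ (1 : ZMod 2).val = g
  simp [ZMod.val_one]

/-- eleven commuting involutions give a homomorphism -/
noncomputable def liftV (f : Fin 11 → G) (hs : ∀ j, f j * f j = 1)
    (hc : ∀ i j, f i * f j = f j * f i) : VV →* G :=
  (MonoidHom.noncommPiCoprod (fun j => zHom (f j) (hs j))
    (fun i j _ _ _ => Commute.pow_pow (hc i j) _ _)).comp
    (MulEquiv.funMultiplicative (Fin 11) (ZMod 2)).toMonoidHom

theorem liftV_bv (f : Fin 11 → G) (hs : ∀ j, f j * f j = 1)
    (hc : ∀ i j, f i * f j = f j * f i) (j : Fin 11) : liftV f hs hc (bv j) = f j := by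
  have e : (MulEquiv.funMultiplicative (Fin 11) (ZMod 2)) (bv j) =
      Pi.mulSingle j (Multiplicative.ofAdd 1) := by
    funext i
    show Multiplicative.ofAdd ((Pi.single j (1 : ZMod 2) : Fin 11 → ZMod 2) i) = _
    rcases eq_or_ne i j with rfl | h
    · simp
    · simp [h]
  rw [liftV, MonoidHom.comp_apply, MulEquiv.coe_toMonoidHom, e]
  erw [MonoidHom.noncommPiCoprod_mulSingle]
  rw [zHom_ofAdd_one]

theorem closure_bv : Subgroup.closure (Set.range bv) = ⊤ := by
  rw [eq_top_iff]
  intro v _
  have e : v = ∏ j : Fin 11, bv j ^ (v.toAdd j).val := by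
    refine Multiplicative.toAdd.injective (funext fun i => ?_)
    rw [toAdd_prod, Finset.sum_apply]
    simp only [toAdd_pow, bv, toAdd_ofAdd, Pi.smul_apply, Pi.single_apply, smul_ite, smul_zero,
      Finset.sum_ite_eq, Finset.mem_univ, if_true, nsmul_eq_mul, mul_one]
    exact (ZMod.natCast_zmod_val _).symm
  rw [e]
  exact prod_mem fun j _ => pow_mem (Subgroup.subset_closure (Set.mem_range_self j)) _

theorem hom_ext {f g : VV →* G} (h : ∀ j, f (bv j) = g (bv j)) : f = g :=
  MonoidHom.eq_of_eqOn_dense closure_bv (by rintro _ ⟨j, rfl⟩; exact h j)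

/-- product of the listed elements at the bits of a mask, below a bound -/
def maskProd (f : ℕ → G) (m : ℕ) : ℕ → G
  | 0 => 1
  | k + 1 => (if m.testBit k then f k else 1) * maskProd f m k

/-- image of a mask under the linear map with given columns -/
def appMask (cols : List ℕ) (m : ℕ) : ℕ → ℕ
  | 0 => 0
  | k + 1 => (if m.testBit k then cols.getD k 0 else 0) ^^^ appMask cols m k

/-- image of a mask, all bits -/
def app (cols : List ℕ) (m : ℕ) : ℕ := appMask cols m 11

theorem map_vec {f : VV →* G} {h : ℕ → G}
    (hh : ∀ j : Fin 11, f (bv j) = h j) (m : ℕ) : f (vec m) = maskProd h m 11 := by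
  have key : ∀ k ≤ 11, f (vec (m % 2 ^ k)) = maskProd h m k := by
    intro k
    induction k with
    | zero => intro _; simp [maskProd, Nat.mod_one, vec_zero]
    | succ k ih =>
      intro hk
      have e : m % 2 ^ (k + 1) = (if m.testBit k then 2 ^ k else 0) ^^^ (m % 2 ^ k) := by
        refine Nat.eq_of_testBit_eq fun i => ?_
        rw [Nat.testBit_xor, Nat.testBit_mod_two_pow, Nat.testBit_mod_two_pow]
        split
        · next h1 =>
          rw [Nat.testBit_two_pow]
          rcases lt_trichotomy i k with h2 | h2 | h2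
          · simp [h2.ne', h2, show i < k + 1 by omega]
          · subst h2; simp [h1]
          · simp [h2.ne, h2.not_gt, show ¬ i < k + 1 by omega]
        · next h1 =>
          rw [Nat.zero_testBit]
          rcases lt_trichotomy i k with h2 | h2 | h2
          · simp [h2, show i < k + 1 by omega]
          · subst h2; simp [h1]
          · simp [h2.not_gt, show ¬ i < k + 1 by omega]
      rw [e, vec_xor, map_mul, ih (by omega), maskProd]
      congr 1
      split
      · rw [vec_two_pow ⟨k, by omega⟩]; exact hh ⟨k, by omega⟩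
      · rw [vec_zero, map_one]
  have hm : vec m = vec (m % 2 ^ 11) := by
    refine Multiplicative.toAdd.injective (funext fun j => ?_)
    simp only [vec, toAdd_ofAdd, Nat.testBit_mod_two_pow, j.2, decide_true, Bool.true_and]
  rw [hm, key 11 le_rfl]

theorem maskProd_vec (cols : List ℕ) (m : ℕ) :
    ∀ k, maskProd (fun j => vec (cols.getD j 0)) m k = vec (appMask cols m k) := by
  intro k
  induction k with
  | zero => exact vec_zero.symm
  | succ k ih =>
    rw [maskProd, appMask, vec_xor, ih]
    congr 1
    split
    · rfl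
    · exact vec_zero.symm

/-- the linear map with given columns -/
noncomputable def colHom (cols : List ℕ) : VV →* VV :=
  liftV (fun j => vec (cols.getD j 0)) (fun j => by rw [← vec_xor, Nat.xor_self, vec_zero])
    (fun _ _ => mul_comm _ _)

theorem colHom_bv (cols : List ℕ) (j : Fin 11) : colHom cols (bv j) = vec (cols.getD j 0) :=
  liftV_bv _ _ _ j

theorem colHom_vec (cols : List ℕ) (m : ℕ) : colHom cols (vec m) = vec (app cols m) := by
  rw [map_vec (h := fun j => vec (cols.getD j 0)) (colHom_bv cols) m, maskProd_vec]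
  rfl

end H94.J4
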