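import Mathlib
import Cfsg.Agent.H94.J4.ElemAb
import Cfsg.Agent.H54.J4.Embed
import Cfsg.Agent.H77.HN.Words

/-!
The split extension of an elementary abelian group of order `2^11` by the group of the length-24
code, as a model of a subgroup of the presented fourth Janko group.
-/

set_option autoImplicit false
set_option maxRecDepth 100000

namespace H94.J4

open H54.J4 (Pres gA gB relsP relSet ev gen map_ev)
open H77.HN (evw)

/-- columns of conjugation by the involution -/
def colsX : List ℕ := [2, 1, 16, 32, 4, 8, 256, 512, 64, 128, 1344]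
/-- columns of conjugation by the element of order three -/
def colsY : List ℕ := [1, 4, 8, 2, 64, 182, 128, 16, 268, 1024, 1708]

/-- the columns of a letter, as many times as needed -/
def stepMask : ℕ → ℕ → ℕ
  | 0, m => app colsX m
  | 1, m => app colsY m
  | _, m => app colsY (app colsY m)

/-- a word on masks -/
def runMask : List ℕ → ℕ → ℕ
  | [], m => m
  | g :: w, m => runMask w (stepMask g m)

theorem colHom_id {cs : List (List ℕ)}
    (h : ∀ j < 11, cs.foldl (fun m c => app c m) (2 ^ j) = 2 ^ j) (v : VV) :
    cs.foldl (fun v c => colHom c v) v = v := by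
  have key : ∀ (cs : List (List ℕ)) (m : ℕ),
      cs.foldl (fun v c => colHom c v) (vec m) = vec (cs.foldl (fun m c => app c m) m) := by
    intro cs
    induction cs with
    | nil => intro m; rfl
    | cons c cs ih => intro m; rw [List.foldl_cons, List.foldl_cons, colHom_vec, ih]
  have hf : ∀ (cs : List (List ℕ)), ∃ f : VV →* VV, ∀ v, f v = cs.foldl (fun v c => colHom c v) v := by
    intro cs
    induction cs with
    | nil => exact ⟨MonoidHom.id _, fun v => rfl⟩
    | cons c cs ih =>
      obtain ⟨f, hf⟩ := ih
      exact ⟨f.comp (colHom c), fun v => hf _⟩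
  obtain ⟨f, hf⟩ := hf cs
  have hid : f = MonoidHom.id _ := hom_ext fun j => by
    rw [hf, ← vec_two_pow, key, h j j.2]
    rfl
  rw [← hf, hid]
  rfl

/-- conjugation by the involution -/
noncomputable def autX : MulAut VV where
  toFun := colHom colsX
  invFun := colHom colsX
  left_inv := colHom_id (cs := [colsX, colsX]) (by decide +kernel)
  right_inv := colHom_id (cs := [colsX, colsX]) (by decide +kernel)
  map_mul' := map_mul _

/-- conjugation by the element of order three -/
noncomputable def autY : MulAut VV where
  toFun := colHom colsY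
  invFun v := colHom colsY (colHom colsY v)
  left_inv := colHom_id (cs := [colsY, colsY, colsY]) (by decide +kernel)
  right_inv := colHom_id (cs := [colsY, colsY, colsY]) (by decide +kernel)
  map_mul' := map_mul _

theorem ev_apply (w : List ℕ) : ∀ m, ev autX autY w (vec m) = vec (runMask w m) := by
  induction w with
  | nil => intro m; rfl
  | cons g w ih =>
    intro m
    have e : gen autX autY g (vec m) = vec (stepMask g m) := by
      rcases g with _ | _ | g <;>
        simp only [gen, zero_add, Nat.reduceEqDiff, if_true, if_false, one_ne_zero, MulAut.mul_apply,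
          stepMask]
      · show colHom colsX (vec m) = _; exact colHom_vec _ _
      · show colHom colsY (vec m) = _; exact colHom_vec _ _
      · show colHom colsY (colHom colsY (vec m)) = _
        rw [colHom_vec, colHom_vec]
    rw [ev, MulAut.mul_apply, e, ih, runMask]

theorem mask_rels : (relsP.all fun w => (List.range 11).all fun j =>
    Nat.beq (runMask w (2 ^ j)) (2 ^ j)) = true := by decide +kernel

theorem aut_rels : ∀ w ∈ relsP, ev autX autY w = 1 := by
  intro w hw
  have h := List.all_eq_true.mp mask_rels w hw
  simp only [List.all_eq_true, List.mem_range, Nat.beq_eq] at h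
  have hh : (ev autX autY w).toMonoidHom = MonoidHom.id _ := hom_ext fun j => by
    show ev autX autY w (bv j) = bv j
    rw [← vec_two_pow, ev_apply, h j j.2]
  ext1 v
  exact DFunLike.congr_fun hh v

/-- the action of the group of the code -/
noncomputable def act : Pres →* MulAut VV :=
  PresentedGroup.toGroup (f := ![autX, autY]) (by
    rintro r ⟨w, hw, rfl⟩
    rw [map_ev]
    simpa using aut_rels w hw)

theorem act_gA : act gA = autX := by simp [act, gA]
theorem act_gB : act gB = autY := by simp [act, gB]

/-- the model -/
abbrev NN : Type := VV ⋊[act] Pres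

instance : Finite Pres := H54.J4.card_pres.1

instance : Finite NN := Finite.of_equiv _ SemidirectProduct.equivProd.symm

theorem card_NN : Nat.card NN = 2048 * 244823040 := by
  rw [SemidirectProduct.card, Nat.card_congr H54.J4.presEquiv.toEquiv, H90.natCard_M24]
  simp [Nat.card_eq_fintype_card]

/-- the fourteen basic letters -/
noncomputable def gen14 (l : ℕ) : NN :=
  if l < 3 then SemidirectProduct.inr (gen gA gB l)
  else if h : l - 3 < 11 then SemidirectProduct.inl (bv ⟨l - 3, h⟩) else 1

theorem gen14_zero : gen14 0 = SemidirectProduct.inr gA := rfl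
theorem gen14_one : gen14 1 = SemidirectProduct.inr gB := rfl
theorem gen14_two : gen14 2 = SemidirectProduct.inr (gB * gB) := rfl

theorem gen14_vec (j : Fin 11) : gen14 (j + 3) = SemidirectProduct.inl (bv j) := by
  rw [gen14, if_neg (by omega), dif_pos (by omega : (j : ℕ) + 3 - 3 < 11)]
  congr 2

theorem gen14_of_ge {l : ℕ} (h : 14 ≤ l) : gen14 l = 1 := by
  rw [gen14, if_neg (by omega), dif_neg (by omega)]

/-- a homomorphism out of the model from commuting involutions normalised by the images of the
generators -/
noncomputable def liftN {G : Type*} [Group G] (P : Pres →* G) (f : Fin 11 → G)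
    (hs : ∀ j, f j * f j = 1) (hc : ∀ i j, f i * f j = f j * f i) (h : ℕ → G)
    (hf : ∀ j : Fin 11, f j = h j)
    (hx : ∀ j : Fin 11, P gA * f j * (P gA)⁻¹ = maskProd h (colsX.getD j 0) 11)
    (hy : ∀ j : Fin 11, P gB * f j * (P gB)⁻¹ = maskProd h (colsY.getD j 0) 11) : NN →* G :=
  SemidirectProduct.lift (liftV f hs hc) P (by
    let S : Subgroup Pres :=
      { carrier := {g | ∀ v, liftV f hs hc (act g v) = P g * liftV f hs hc v * (P g)⁻¹}
        one_mem' := fun v => by simp
        mul_mem' := fun {a b} ha hb v => by
          rw [map_mul, MulAut.mul_apply, ha, hb, map_mul]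
          group
        inv_mem' := fun {a} ha v => by
          have := ha ((act a)⁻¹ v)
          rw [MulAut.apply_inv_self] at this
          rw [map_inv, map_inv, this]
          group }
    have gen_mem : ∀ (p : Pres) (cols : List ℕ), (∀ v, act p v = colHom cols v) →
        (∀ j : Fin 11, P p * f j * (P p)⁻¹ = maskProd h (cols.getD j 0) 11) → p ∈ S := by
      intro p cols hp hj v
      have e : (liftV f hs hc).comp (act p).toMonoidHom =
          (MulAut.conj (P p)).toMonoidHom.comp (liftV f hs hc) := hom_ext fun j => by
        show liftV f hs hc (act p (bv j)) = P p * liftV f hs hc (bv j) * (P p)⁻¹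
        rw [hp, colHom_bv, map_vec (h := h) (fun i => (liftV_bv f hs hc i).trans (hf i)),
          liftV_bv, hj]
      exact DFunLike.congr_fun e v
    intro g
    have hg : g ∈ S := by
      have : (⊤ : Subgroup Pres) ≤ S := by
        rw [← H54.J4.closure_gens, Subgroup.closure_le]
        rintro p (rfl | rfl)
        · exact gen_mem _ colsX (fun v => by rw [act_gA]; rfl) hx
        · exact gen_mem _ colsY (fun v => by rw [act_gB]; rfl) hy
      exact this (Subgroup.mem_top g)
    exact MonoidHom.ext fun v => hg v)

theorem liftN_inr {G : Type*} [Group G] {P : Pres →* G} {f : Fin 11 → G} {hs hc h hf hx hy}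
    (p : Pres) : liftN P f hs hc h hf hx hy (SemidirectProduct.inr p) = P p :=
  SemidirectProduct.lift_inr _ _ _ _

theorem liftN_inl {G : Type*} [Group G] {P : Pres →* G} {f : Fin 11 → G} {hs hc h hf hx hy}
    (j : Fin 11) : liftN P f hs hc h hf hx hy (SemidirectProduct.inl (bv j)) = f j :=
  (SemidirectProduct.lift_inl _ _ _ _).trans (liftV_bv f hs hc j)

theorem closure_gen14 : Subgroup.closure ({gen14 0, gen14 1, gen14 3} : Set NN) = ⊤ := by
  set S := Subgroup.closure ({gen14 0, gen14 1, gen14 3} : Set NN)
  have hP : ∀ p : Pres, (SemidirectProduct.inr p : NN) ∈ S := by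
    have : (⊤ : Subgroup Pres) ≤ S.comap SemidirectProduct.inr := by
      rw [← H54.J4.closure_gens, Subgroup.closure_le]
      rintro p (rfl | rfl)
      · exact Subgroup.subset_closure (Or.inl rfl)
      · exact Subgroup.subset_closure (Or.inr (Or.inl rfl))
    exact fun p => this (Subgroup.mem_top p)
  have h0 : (SemidirectProduct.inl (bv 0) : NN) ∈ S :=
    Subgroup.subset_closure (Or.inr (Or.inr (by exact (gen14_vec 0).symm)))
  have conjw : ∀ (p : Pres) (v : VV), (SemidirectProduct.inl v : NN) ∈ S →
      (SemidirectProduct.inl (act p v) : NN) ∈ S := by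
    intro p v hv
    rw [SemidirectProduct.inl_aut]
    exact mul_mem (mul_mem (hP p) hv) (hP _)
  have hw : ∀ w : List ℕ, (SemidirectProduct.inl (vec (runMask w 1)) : NN) ∈ S := by
    intro w
    have e := conjw (ev gA gB w) (bv 0) h0
    rwa [map_ev, act_gA, act_gB, ← vec_two_pow, ev_apply] at e
  have hb : ∀ j : Fin 11, (SemidirectProduct.inl (bv j) : NN) ∈ S := by
    have hl : ∀ j < 11, ∃ w ∈ ([[], [0], [0, 1], [0, 2], [0, 1, 0], [0, 2, 0], [0, 1, 0, 1],
        [0, 1, 0, 2], [0, 1, 0, 1, 0], [0, 1, 0, 2, 0], [0, 1, 0, 2, 0, 1]] : List (List ℕ)),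
        runMask w 1 = 2 ^ j := by decide +kernel
    intro j
    obtain ⟨w, -, h⟩ := hl j j.2
    have := hw w
    rwa [h, vec_two_pow] at this
  rw [eq_top_iff]
  intro n _
  rw [← SemidirectProduct.inl_left_mul_inr_right n]
  refine mul_mem ?_ (hP _)
  have hv : (⊤ : Subgroup VV) ≤ S.comap SemidirectProduct.inl := by
    rw [← closure_bv, Subgroup.closure_le]
    rintro _ ⟨j, rfl⟩
    exact hb j
  exact hv (Subgroup.mem_top _)

end H94.J4
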