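import Mathlib
import Cfsg.Agent.H94.J4.Model
import Cfsg.Agent.H94.J4.Check.Small

/-!
The model acting on 1518 signed octads.
-/

set_option autoImplicit false
set_option maxRecDepth 100000

namespace H94.J4

open H54.J4 (Pres gA gB relsP ev gen map_ev)
open H77.HN (evw run allBelow_spec)

theorem ev_eq_evw {G : Type*} [Group G] (a b : G) (w : List ℕ) : ev a b w = evw (gen a b) w := by
  induction w with
  | nil => rfl
  | cons g w ih => rw [ev, H77.HN.evw_cons, ih]

theorem undo18_spec {l l' : ℕ} (h : undo18 l l' = true) (c : Fin 1518) :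
    T18 l (T18 l' c) = c ∧ T18 l' c < 1518 := by
  have := allBelow_spec (f := fun c => Nat.beq (T18 l (T18 l' c)) c && Nat.ble (T18 l' c + 1) 1518)
    h c (Nat.zero_le _) (by have := c.2; omega)
  simp only [Bool.and_eq_true, Nat.beq_eq, Nat.ble_eq] at this
  exact ⟨this.1, this.2⟩

/-- the permutation of two letters undoing each other -/
noncomputable def pair18 (l l' : ℕ) (h : undo18 l l' = true) (h' : undo18 l' l = true) :
    Equiv.Perm (Fin 1518) where
  toFun c := ⟨T18 l c, (undo18_spec h' c).2⟩
  invFun c := ⟨T18 l' c, (undo18_spec h c).2⟩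
  left_inv c := Fin.ext (undo18_spec h' c).1
  right_inv c := Fin.ext (undo18_spec h c).1

/-- the involution -/
noncomputable def pA : Equiv.Perm (Fin 1518) := pair18 0 0 undo_x undo_x
/-- the element of order three -/
noncomputable def pB : Equiv.Perm (Fin 1518) := pair18 1 2 undo_y.1 undo_y.2

theorem undo_e' (j : Fin 11) : undo18 (j + 3) (j + 3) = true :=
  List.all_eq_true.mp undo_e j (List.mem_range.mpr j.2)

/-- the basis -/
noncomputable def pE (j : Fin 11) : Equiv.Perm (Fin 1518) :=
  pair18 (j + 3) (j + 3) (undo_e' j) (undo_e' j)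

/-- all basic letters -/
noncomputable def pgen (l : ℕ) : Equiv.Perm (Fin 1518) :=
  if l < 3 then gen pA pB l else if h : l - 3 < 11 then pE ⟨l - 3, h⟩ else 1

theorem pgen_vec (j : Fin 11) : pgen (j + 3) = pE j := by
  rw [pgen, if_neg (by omega), dif_pos (by omega : (j : ℕ) + 3 - 3 < 11)]
  congr 1

theorem pair_mul_self {l : ℕ} {h h' : undo18 l l = true} : pair18 l l h h' * pair18 l l h h' = 1 := by
  refine Equiv.ext fun c => Fin.ext ?_
  exact (undo18_spec h c).1

theorem pgen_base {l : ℕ} (hl : l < 2) (c : Fin 1518) : (gen pA pB l c : ℕ) = T18 l c := by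
  interval_cases l <;> rfl

theorem pB_inv : pB * pB = pair18 2 1 undo_y.2 undo_y.1 := by
  have hinv : pB⁻¹ = pair18 2 1 undo_y.2 undo_y.1 := rfl
  rw [← hinv]
  refine eq_inv_of_mul_eq_one_left ?_
  have h := List.all_eq_true.mp rels18 [1, 1, 1] (by decide +kernel)
  refine Equiv.ext fun c => Fin.ext ?_
  have := allBelow_spec (f := fun p => Nat.beq (H77.HN.runK T18 [1, 1, 1] p) (H77.HN.runK T18 [] p))
    h c (Nat.zero_le _) (by have := c.2; omega)
  simp only [Nat.beq_eq, H77.HN.runK_eq, run] at this
  exact this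

theorem pgen_spec {l : ℕ} (hl : l < 14) (c : Fin 1518) : (pgen l c : ℕ) = T18 l c := by
  rcases Nat.lt_or_ge l 3 with h | h
  · rw [pgen, if_pos h]
    rcases Nat.lt_or_ge l 2 with h2 | h2
    · exact pgen_base h2 c
    · obtain rfl : l = 2 := by omega
      have e : gen pA pB 2 = pB * pB := rfl
      rw [e, pB_inv]
      rfl
  · obtain ⟨j, rfl⟩ : ∃ j : Fin 11, l = j + 3 := ⟨⟨l - 3, by omega⟩, by simp; omega⟩
    rw [pgen_vec]
    rfl

theorem evw_pgen : ∀ (w : List ℕ), (∀ a ∈ w, a < 14) → ∀ c : Fin 1518,
    (evw pgen w c : ℕ) = run T18 w c := by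
  intro w
  induction w with
  | nil => intro _ c; simp [run]
  | cons a w ih =>
    intro h c
    simp only [List.mem_cons, forall_eq_or_imp] at h
    rw [H77.HN.evw_cons, Equiv.Perm.mul_apply, ih h.2, pgen_spec h.1]; rfl

theorem same18_spec {u v : List ℕ} (h : same18 u v = true) (hu : ∀ a ∈ u, a < 14)
    (hv : ∀ a ∈ v, a < 14) : evw pgen u = evw pgen v := by
  refine Equiv.ext fun c => Fin.ext ?_
  rw [evw_pgen u hu, evw_pgen v hv]
  have := allBelow_spec (f := fun p => Nat.beq (H77.HN.runK T18 u p) (H77.HN.runK T18 v p)) h c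
    (Nat.zero_le _) (by have := c.2; omega)
  simp only [Nat.beq_eq, H77.HN.runK_eq] at this
  exact this

theorem relsP_small : (relsP.all fun w => w.all fun a => Nat.blt a 3) = true := by decide +kernel

theorem perm_rels18 : ∀ w ∈ relsP, ev pA pB w = 1 := by
  intro w hw
  have hs := List.all_eq_true.mp relsP_small w hw
  simp only [List.all_eq_true, Nat.blt, Nat.ble_eq] at hs
  have e : evw (gen pA pB) w = evw pgen w := by
    have : ∀ u : List ℕ, (∀ a ∈ u, a < 3) → evw (gen pA pB) u = evw pgen u := by
      intro u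
      induction u with
      | nil => intro _; rfl
      | cons a u ih =>
        intro h
        simp only [List.mem_cons, forall_eq_or_imp] at h
        rw [H77.HN.evw_cons, H77.HN.evw_cons, ih h.2, pgen, if_pos h.1]
    exact this w fun a ha => hs a ha
  rw [ev_eq_evw, e, same18_spec (List.all_eq_true.mp rels18 w hw)
    (fun a ha => by have := hs a ha; omega) (by simp)]
  rfl

/-- the presented group on the signed octads -/
noncomputable def presPerm : Pres →* Equiv.Perm (Fin 1518) :=
  PresentedGroup.toGroup (f := ![pA, pB]) (by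
    rintro r ⟨w, hw, rfl⟩
    rw [map_ev]
    simpa using perm_rels18 w hw)

theorem presPerm_gA : presPerm gA = pA := by simp [presPerm, gA]
theorem presPerm_gB : presPerm gB = pB := by simp [presPerm, gB]

theorem maskWord_lt (m : ℕ) : ∀ k ≤ 11, ∀ a ∈ maskWord m k, a < 14 := by
  intro k
  induction k with
  | zero => simp [maskWord]
  | succ k ih =>
    intro hk a ha
    rw [maskWord, List.mem_append] at ha
    rcases ha with ha | ha
    · exact ih (by omega) a ha
    · split at ha <;> simp at ha
      omega

theorem evw_maskWord {G : Type*} [Group G] (g : ℕ → G) (m : ℕ) :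
    ∀ k, evw g (maskWord m k) = maskProd (fun j => g (j + 3)) m k := by
  intro k
  induction k with
  | zero => rfl
  | succ k ih =>
    rw [maskWord, H77.HN.evw_append, ih, maskProd]
    congr 1
    split <;> simp

theorem pE_comm (i j : Fin 11) : pE i * pE j = pE j * pE i := by
  have key : ∀ i j : Fin 11, (i : ℕ) < j → pE i * pE j = pE j * pE i := by
    intro i j h
    have h1 := List.all_eq_true.mp comm_e i (List.mem_range.mpr i.2)
    have h2 := List.all_eq_true.mp h1 j (List.mem_range.mpr j.2)
    rw [Bool.or_eq_true, Nat.ble_eq] at h2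
    have h3 := same18_spec (h2.resolve_left (by omega)) (by simp; omega) (by simp; omega)
    simp only [H77.HN.evw_cons, H77.HN.evw_nil, one_mul, pgen_vec] at h3
    exact h3.symm
  rcases lt_trichotomy (i : ℕ) j with h | h | h
  · exact key i j h
  · rw [Fin.ext h]
  · exact (key j i h).symm

theorem pE_sq (j : Fin 11) : pE j * pE j = 1 := pair_mul_self

/-- the model on the signed octads -/
noncomputable def phi18 : NN →* Equiv.Perm (Fin 1518) :=
  liftN presPerm pE pE_sq pE_comm (fun j => pgen (j + 3))
    (fun j => (pgen_vec j).symm)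
    (fun j => by
      have h := same18_spec (List.all_eq_true.mp conj_x j (List.mem_range.mpr j.2))
        (by simp; omega) (maskWord_lt _ 11 le_rfl)
      rw [← evw_maskWord, ← h, presPerm_gA]
      have hp : pA⁻¹ = pA := inv_eq_of_mul_eq_one_right pair_mul_self
      simp only [H77.HN.evw_cons, H77.HN.evw_nil, one_mul, pgen_vec, hp]
      rfl)
    (fun j => by
      have h := same18_spec (List.all_eq_true.mp conj_y j (List.mem_range.mpr j.2))
        (by simp; omega) (maskWord_lt _ 11 le_rfl)
      rw [← evw_maskWord, ← h, presPerm_gB]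
      have hp : pB * pB = pB⁻¹ := pB_inv.trans rfl
      simp only [H77.HN.evw_cons, H77.HN.evw_nil, one_mul, pgen_vec, ← hp]
      rfl)

theorem phi18_gen14 (l : ℕ) : phi18 (gen14 l) = pgen l := by
  unfold gen14 pgen
  split
  · exact (liftN_inr _).trans ev_gen
  · split
    · exact liftN_inl _
    · exact map_one _
where
  ev_gen {k : ℕ} : presPerm (gen gA gB k) = gen pA pB k := by
    rw [H54.J4.map_gen, presPerm_gA, presPerm_gB]

end H94.J4
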