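import Mathlib
import Cfsg.Agent.H94.J4.Perm
import Cfsg.Agent.H94.J4.Check.Linked

/-!
The model acting on the 15180 points, which are triples of signed octads.
-/

set_option autoImplicit false
set_option maxRecDepth 100000

namespace H94.J4

open H77.HN (evw run Rep allBelow_spec)

/-- the letters of the model -/
noncomputable def genAll (l : ℕ) : NN := evw gen14 (wordOf l)

theorem word_low : ((List.range 14).all fun l => decide (wordOf l = [l])) = true := by decide +kernel

theorem word_basic : (Data.wordTab.all fun w => w.all fun a => Nat.blt a 14) = true := by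
  decide +kernel

theorem wordOf_lt (l : ℕ) : ∀ a ∈ wordOf l, a < 14 := by
  intro a ha
  rw [wordOf] at ha
  rcases Nat.lt_or_ge l Data.wordTab.length with h | h
  · rw [List.getD_eq_getElem _ _ h] at ha
    have := List.all_eq_true.mp word_basic _ (List.getElem_mem h)
    simp only [List.all_eq_true, Nat.blt, Nat.ble_eq] at this
    exact this a ha
  · rw [List.getD_eq_default _ _ h] at ha; simp at ha

theorem genAll_low {l : ℕ} (hl : l < 14) : genAll l = gen14 l := by
  have h := List.all_eq_true.mp word_low l (List.mem_range.mpr hl)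
  simp only [decide_eq_true_eq] at h
  rw [genAll, h, H77.HN.evw_singleton]

theorem phi18_evw (w : List ℕ) : phi18 (evw gen14 w) = evw pgen w := by
  rw [← H77.HN.evw_map]
  exact congrArg (fun f => evw f _) (funext phi18_gen14)

theorem phi18_spec {l : ℕ} (hl : l < Data.numTab) (c : Fin 1518) :
    (phi18 (genAll l) c : ℕ) = T18 l c := by
  rcases Nat.lt_or_ge l 14 with h | h
  · rw [genAll_low h, phi18_gen14, pgen_spec h]
  · have hs := small_all l h hl
    simp only [smallOK, Bool.and_eq_true] at hs
    have := allBelow_spec (f := fun p => Nat.beq (T18 l p) (H77.HN.runK T18 (wordOf l) p))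
      hs.1 c (Nat.zero_le _) (by have := c.2; omega)
    simp only [Nat.beq_eq, H77.HN.runK_eq] at this
    rw [genAll, phi18_evw, evw_pgen _ (wordOf_lt l), this]

/-- a signed octad is an entry of the triple of a point -/
def Entry (k : Fin 15180) (p : Fin 1518) : Prop :=
  (p : ℕ) = triA (triK k) ∨ (p : ℕ) = triB (triK k) ∨ (p : ℕ) = triC (triK k)

theorem tri_facts (k : Fin 15180) : triA (triK k) < triB (triK k) ∧ triB (triK k) < triC (triK k) ∧
    triC (triK k) < 1518 ∧ ((k : ℕ) = 0 ∨ triK k ≠ triK 0) ∧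
      ((k : ℕ) ≤ 1 ∨ triK ((k : ℕ) - 1) < triK k) := by
  have h := allBelow_spec tri_ok k (Nat.zero_le _) (by have := k.2; omega)
  simp only [triEntry, H77.HN.frc_eq, Bool.and_eq_true, Nat.blt, Nat.ble_eq, Bool.or_eq_true,
    Nat.beq_eq, Bool.not_eq_true'] at h
  obtain ⟨⟨⟨⟨h1, h2⟩, h3⟩, h4⟩, h5⟩ := h
  exact ⟨h1, h2, h3, h4.imp id Nat.ne_of_beq_eq_false, h5⟩

theorem triK_inj {j k : Fin 15180} (h : triK j = triK k) : j = k := by
  have mono : ∀ n, ∀ a b : Fin 15180, 1 ≤ (a : ℕ) → (b : ℕ) = (a : ℕ) + n + 1 → triK a < triK b := by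
    intro n
    induction n with
    | zero =>
      intro a b ha hb
      have := (tri_facts b).2.2.2.2.resolve_left (by omega)
      rwa [hb, Nat.add_sub_cancel, ← hb] at this
    | succ n ih =>
      intro a b ha hb
      have h1 := ih a ⟨(a : ℕ) + n + 1, by omega⟩ ha rfl
      have h2 := (tri_facts b).2.2.2.2.resolve_left (by omega)
      rw [show (b : ℕ) - 1 = (a : ℕ) + n + 1 by omega] at h2
      exact h1.trans h2
  have key : ∀ a b : Fin 15180, (a : ℕ) < b → triK a ≠ triK b := by
    intro a b hab
    rcases Nat.eq_zero_or_pos (a : ℕ) with ha | ha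
    · rw [ha]; exact ((tri_facts b).2.2.2.1.resolve_left (by omega)).symm
    · exact ne_of_lt (mono ((b : ℕ) - (a : ℕ) - 1) a b ha (by omega))
  rcases lt_trichotomy (j : ℕ) k with hlt | heq | hlt
  · exact absurd h (key j k hlt)
  · exact Fin.ext heq
  · exact absurd h.symm (key k j hlt)

theorem tri_eq (t : ℕ) : t = triA t + 2048 * triB t + 4194304 * triC t := by
  simp only [triA, triB, triC]; omega

theorem entry_inj {j k : Fin 15180} (h : ∀ p, Entry j p → Entry k p) : j = k := by
  obtain ⟨a1, a2, a3, -, -⟩ := tri_facts j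
  obtain ⟨b1, b2, b3, -, -⟩ := tri_facts k
  have hA := h ⟨triA (triK j), by omega⟩ (Or.inl rfl)
  have hB := h ⟨triB (triK j), by omega⟩ (Or.inr (Or.inl rfl))
  have hC := h ⟨triC (triK j), by omega⟩ (Or.inr (Or.inr rfl))
  simp only [Entry] at hA hB hC
  apply triK_inj
  rw [tri_eq (triK j), tri_eq (triK k)]
  omega

/-- a permutation carries the triple of one point to that of another -/
def Maps (g : NN) (k k' : Fin 15180) : Prop := ∀ p, Entry k p → Entry k' (phi18 g p)

theorem maps_unique {g : NN} {k k₁ k₂ : Fin 15180} (h₁ : Maps g k k₁) (h₂ : Maps g k k₂) :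
    k₁ = k₂ := by
  obtain ⟨a1, a2, a3, -, -⟩ := tri_facts k
  obtain ⟨b1, b2, b3, -, -⟩ := tri_facts k₁
  have e : ∀ p q : Fin 1518, (p : ℕ) ≠ q → ((phi18 g p : Fin 1518) : ℕ) ≠ (phi18 g q : Fin 1518) :=
    fun p q hpq he => hpq (congrArg Fin.val ((phi18 g).injective (Fin.ext he)))
  have pA' : ∃ pa pb pc : Fin 1518, (pa : ℕ) = triA (triK k) ∧ (pb : ℕ) = triB (triK k) ∧
      (pc : ℕ) = triC (triK k) :=
    ⟨⟨triA (triK k), by omega⟩, ⟨triB (triK k), by omega⟩, ⟨triC (triK k), by omega⟩, rfl, rfl, rfl⟩
  obtain ⟨pa, pb, pc, ea, eb, ec⟩ := pA'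
  have hA := h₁ pa (Or.inl ea)
  have hB := h₁ pb (Or.inr (Or.inl eb))
  have hC := h₁ pc (Or.inr (Or.inr ec))
  have nAB := e pa pb (by omega)
  have nAC := e pa pc (by omega)
  have nBC := e pb pc (by omega)
  refine entry_inj fun p hp => ?_
  have hcase : p = phi18 g pa ∨ p = phi18 g pb ∨ p = phi18 g pc := by
    simp only [Entry] at hA hB hC hp
    simp only [Fin.ext_iff]
    omega
  rcases hcase with rfl | rfl | rfl
  · exact h₂ pa (Or.inl ea)
  · exact h₂ pb (Or.inr (Or.inl eb))
  · exact h₂ pc (Or.inr (Or.inr ec))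

theorem maps_letter {l : ℕ} (hl : l < Data.numTab) (k : Fin 15180) :
    ∃ h : T15 l k < 15180, Maps (genAll l) k ⟨T15 l k, h⟩ := by
  have h := allBelow_spec (link_all l hl) k (Nat.zero_le _) (by have := k.2; omega)
  simp only [linkEntry, H77.HN.frc_eq, Bool.and_eq_true, Nat.blt, Nat.ble_eq, inTri, Bool.or_eq_true,
    Nat.beq_eq] at h
  obtain ⟨h0, ⟨hA, hB⟩, hC⟩ := h
  refine ⟨h0, fun p hp => ?_⟩
  simp only [Entry, phi18_spec hl]
  rcases hp with e | e | e <;> rw [e]
  · exact hA.elim (fun x => x.elim Or.inl fun y => Or.inr (Or.inl y)) fun x => Or.inr (Or.inr x)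
  · exact hB.elim (fun x => x.elim Or.inl fun y => Or.inr (Or.inl y)) fun x => Or.inr (Or.inr x)
  · exact hC.elim (fun x => x.elim Or.inl fun y => Or.inr (Or.inl y)) fun x => Or.inr (Or.inr x)

theorem maps_exists (g : NN) : ∀ k, ∃ k', Maps g k k' := by
  let M : Submonoid NN :=
    { carrier := {g | ∀ k, ∃ k', Maps g k k'}
      one_mem' := fun k => ⟨k, fun p hp => by simpa using hp⟩
      mul_mem' := fun {a b} ha hb k => by
        obtain ⟨k1, h1⟩ := hb k
        obtain ⟨k2, h2⟩ := ha k1
        exact ⟨k2, fun p hp => by rw [map_mul, Equiv.Perm.mul_apply]; exact h2 _ (h1 p hp)⟩ }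
  have hM : (Subgroup.closure ({gen14 0, gen14 1, gen14 3} : Set NN)).toSubmonoid ≤ M := by
    rw [Subgroup.closure_toSubmonoid_of_finite, Submonoid.closure_le]
    have hl : ∀ l < 14, gen14 l ∈ M := by
      intro l hl k
      rw [← genAll_low hl]
      obtain ⟨h, hm⟩ := maps_letter (show l < Data.numTab from lt_of_lt_of_le hl (by decide)) k
      exact ⟨_, hm⟩
    rintro x (rfl | rfl | rfl) <;> exact hl _ (by norm_num)
  exact hM (show g ∈ Subgroup.closure _ by rw [closure_gen14]; exact Subgroup.mem_top g)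

/-- the image of a point -/
noncomputable def move (g : NN) (k : Fin 15180) : Fin 15180 := (maps_exists g k).choose

theorem move_spec (g : NN) (k : Fin 15180) : Maps g k (move g k) := (maps_exists g k).choose_spec

theorem move_mul (g h : NN) (k : Fin 15180) : move (g * h) k = move g (move h k) :=
  maps_unique (move_spec _ k) fun p hp => by
    rw [map_mul, Equiv.Perm.mul_apply]; exact move_spec g _ _ (move_spec h k p hp)

theorem move_one (k : Fin 15180) : move 1 k = k :=
  maps_unique (move_spec _ k) fun p hp => by simpa using hp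

/-- the action on the points -/
noncomputable def phi15 : NN →* Equiv.Perm (Fin 15180) where
  toFun g :=
    { toFun := move g
      invFun := move g⁻¹
      left_inv := fun k => by rw [← move_mul, inv_mul_cancel, move_one]
      right_inv := fun k => by rw [← move_mul, mul_inv_cancel, move_one] }
  map_one' := Equiv.ext move_one
  map_mul' g h := Equiv.ext (move_mul g h)

theorem phi15_spec {l : ℕ} (hl : l < Data.numTab) (k : Fin 15180) :
    (phi15 (genAll l) k : ℕ) = T15 l k := by
  obtain ⟨h, hm⟩ := maps_letter hl k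
  exact congrArg Fin.val (maps_unique (move_spec _ k) hm)

theorem phi15_evw : ∀ (w : List ℕ), (∀ a ∈ w, a < 14) → ∀ k : Fin 15180,
    (phi15 (evw gen14 w) k : ℕ) = run T15 w k := by
  intro w
  induction w with
  | nil => intro _ k; simp [run]
  | cons a w ih =>
    intro h k
    simp only [List.mem_cons, forall_eq_or_imp] at h
    rw [H77.HN.evw_cons, map_mul, Equiv.Perm.mul_apply, ih h.2, ← genAll_low h.1,
      phi15_spec (lt_of_lt_of_le h.1 (by decide))]
    rfl

theorem rep_spec (l : ℕ) (k : Fin 15180) : (phi15 (genAll l) k : ℕ) = T l k := by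
  rcases Nat.lt_or_ge l Data.numTab with h | h
  · have e : Nat.blt l Data.numTab = true := by simp only [Nat.blt, Nat.ble_eq]; omega
    rw [T, e, cond_true, phi15_spec h]
  · have e : Nat.blt l Data.numTab = false := by
      rw [Bool.eq_false_iff]; simp only [Nat.blt, ne_eq, Nat.ble_eq]; omega
    rw [T, e, cond_false, H77.HN.runK_eq, genAll, phi15_evw _ (wordOf_lt l)]

/-- the action through all letters -/
noncomputable def repAll : Rep genAll cert.np cert.T where
  φ := phi15
  spec := rep_spec

end H94.J4
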