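import Mathlib
import Cfsg.Agent.H23.DC.Bound
import Cfsg.Agent.H94.J4.Rep15
import Cfsg.Agent.H94.J4.Lev
import Cfsg.Agent.H94.J4.Check.Levels
import Cfsg.Agent.H94.J4.Check.Trans
import Cfsg.Agent.H94.J4.Check.Trees
import Cfsg.Agent.H94.J4.CheckDeds

/-!
The double coset setting over the model.
-/

set_option autoImplicit false
set_option maxRecDepth 100000

namespace H94.J4

open H77.HN (evw Rep levelCheck exact_of_bound)

/-- every point is an image of the point 0 -/
theorem transitive (c : Fin 15180) : ∃ g : NN, phi15 g ⟨0, by norm_num⟩ = c := by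
  have h7 : (0 : ℕ) < cert.r := show 0 < 7 by norm_num
  have key : ∀ (d : ℕ) (c : Fin 15180), cert.dep 0 c = d →
      ∃ g : NN, ∃ r : Fin 15180, (r : ℕ) = cert.root 0 ∧ phi15 g r = c := by
    intro d
    induction d with
    | zero =>
      intro c hd
      have h := tree_all 0 h7 c c.2
      have ho := H77.HN.allBelow_spec orb0_ok c (Nat.zero_le _) (by have := c.2; omega)
      rw [Nat.beq_eq] at ho
      simp only [H23.DC.Cert.treeEntry, Bool.and_eq_true, hd, if_true, decide_eq_true_eq, ho] at h
      exact ⟨1, c, h.2.symm, by simp⟩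
    | succ d ih =>
      intro c hd
      have h := tree_all 0 h7 c c.2
      simp only [H23.DC.Cert.treeEntry, Bool.and_eq_true, hd, Nat.succ_ne_zero, if_false,
        decide_eq_true_eq, List.contains_iff_mem] at h
      obtain ⟨-, -, hp, hT, -, hdp⟩ := h
      obtain ⟨g, r, hr, hg⟩ := ih ⟨cert.par 0 c, hp⟩ (by simpa using hdp)
      refine ⟨genAll (cert.plet 0 c) * g, r, hr, ?_⟩
      rw [map_mul, Equiv.Perm.mul_apply, hg]
      exact Fin.ext ((rep_spec _ _).trans hT)
  obtain ⟨g, r, hr, hg⟩ := key _ ⟨0, by norm_num⟩ rfl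
  obtain ⟨g', r', hr', hg'⟩ := key _ c rfl
  have : r' = r := Fin.ext (hr'.trans hr.symm)
  subst this
  exact ⟨g' * g⁻¹, by rw [map_mul, map_inv, Equiv.Perm.mul_apply, ← hg]; simpa using hg'⟩

theorem exact_model : Subgroup.closure (genAll '' {l | l ∈ cert.hl}) =
      repAll.fixPt ⟨0, by decide⟩ ∧ repAll.IsBase cert.B := by
  obtain ⟨h1, h2, h3⟩ := levelsH_ok
  obtain ⟨c1, c2⟩ := chainR_spec h1
  set R := repAll
  set K := Subgroup.closure (genAll '' {l | l ∈ cert.hl})
  let o : Fin cert.np := ⟨0, by decide⟩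
  have hKle : K ≤ R.fixPt o := by
    rw [Subgroup.closure_le]
    rintro _ ⟨l, hl, rfl⟩
    have := List.all_eq_true.mp hl_fix l hl
    rw [Nat.beq_eq] at this
    exact Fin.ext (by rw [R.spec]; exact this)
  choose g hg using transitive
  have hinj : Function.Injective (fun p : Fin 15180 × R.fixPt o => g p.1 * p.2.1) := by
    intro p q hpq
    have hfixp : ∀ r : R.fixPt o, phi15 r.1 ⟨0, by norm_num⟩ = (⟨0, by norm_num⟩ : Fin 15180) :=
      fun r => r.2
    have he : g p.1 * p.2.1 = g q.1 * q.2.1 := hpq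
    have e1 : ∀ p : Fin 15180 × R.fixPt o, phi15 (g p.1 * p.2.1) ⟨0, by norm_num⟩ = p.1 := fun p => by
      rw [map_mul, Equiv.Perm.mul_apply]
      exact (congrArg _ (hfixp p.2)).trans (hg p.1)
    have hij : p.1 = q.1 := (e1 p).symm.trans ((congrArg (fun x => phi15 x _) he).trans (e1 q))
    rw [hij] at he
    exact Prod.ext hij (Subtype.ext (mul_left_cancel he))
  have h5 := Nat.card_le_card_of_injective _ hinj
  rw [Nat.card_prod, Nat.card_fin, card_NN] at h5
  have hb : ∀ p ∈ conv Data.levelsH, p.1 < cert.np := c2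
  have h6 := H77.HN.chain_le R hb c1
  rw [List.nil_append, ordR_eq] at h6
  change ordR Data.levelsH * Nat.card (H77.HN.fixList R K ((conv Data.levelsH).map Prod.fst)) ≤
    Nat.card (H77.HN.fixList R K []) at h6
  have hKnil : H77.HN.fixList R K [] = K := le_antisymm (fun x hx => (H77.HN.mem_fixList.mp hx).1)
    (fun x hx => H77.HN.mem_fixList.mpr ⟨hx, by simp⟩)
  rw [hKnil] at h6
  have hpos : 0 < Nat.card (H77.HN.fixList R K ((conv Data.levelsH).map Prod.fst)) := Nat.card_pos
  have h7 : Nat.card K ≤ Nat.card (R.fixPt o) := Subgroup.card_le_of_le hKle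
  have h8 : ordR Data.levelsH ≤ ordR Data.levelsH *
      Nat.card (H77.HN.fixList R K ((conv Data.levelsH).map Prod.fst)) :=
    Nat.le_mul_of_pos_right _ hpos
  have hKeq : K = R.fixPt o := Subgroup.eq_of_le_of_card_ge hKle (by omega)
  have hone : Nat.card (H77.HN.fixList R K ((conv Data.levelsH).map Prod.fst)) = 1 := by
    have h9 : ordR Data.levelsH * Nat.card (H77.HN.fixList R K ((conv Data.levelsH).map Prod.fst)) ≤
        ordR Data.levelsH * 1 := by rw [mul_one]; omega
    have := Nat.le_of_mul_le_mul_left h9 (by omega)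
    omega
  refine ⟨hKeq, ?_⟩
  rw [← h3, show Data.levelsH.map Prod.fst = (conv Data.levelsH).map Prod.fst by
    simp [conv, List.map_map, Function.comp_def]]
  refine ⟨fun b hb' => ?_, fun x hx => ?_⟩
  · rcases List.mem_cons.mp hb' with rfl | hb'
    · exact o.2
    · obtain ⟨p, hp, rfl⟩ := List.mem_map.mp hb'; exact hb p hp
  · have hxK : x ∈ H77.HN.fixList R K ((conv Data.levelsH).map Prod.fst) := H77.HN.mem_fixList.mpr
      ⟨hKeq ▸ hx o (by simp [o]), fun p hp => hx p (List.mem_cons_of_mem _ hp)⟩
    rw [(Subgroup.card_eq_one).mp hone, Subgroup.mem_bot] at hxK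
    exact hxK

/-- the setting -/
noncomputable def setting : H23.DC.Setting NN where
  D := cert
  gen := genAll
  R := repAll
  hB := exact_model.2
  hnp := by decide
  hH := exact_model.1.ge
  hroots := roots_ok
  htree := tree_all

theorem stab_zero : setting.stab 0 = ⊤ := by
  rw [eq_top_iff, ← closure_gen14, Subgroup.closure_le]
  intro x hx
  have hsg : cert.sg 0 = [0, 1, 3] := by decide +kernel
  refine Subgroup.subset_closure ?_
  show x ∈ genAll '' {l | l ∈ cert.sg 0}
  rw [hsg]
  rcases hx with rfl | rfl | rfl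
  · exact ⟨0, by simp, genAll_low (by norm_num)⟩
  · exact ⟨1, by simp, genAll_low (by norm_num)⟩
  · exact ⟨3, by simp, genAll_low (by norm_num)⟩

theorem stab_index {i size : ℕ} {ls : List (ℕ × List ℕ)}
    (h : chainR T (cert.sg i) 15180 [] ls = true ∧ size * ordR ls = 2048 * 244823040) :
    (setting.stab i).index ≤ size := by
  obtain ⟨h1, h2⟩ := h
  obtain ⟨c1, c2⟩ := chainR_spec h1
  have h6 := H77.HN.chain_le repAll c2 c1
  have h7 : ordR ls ≤ Nat.card (setting.stab i) := by
    refine le_trans (le_trans ?_ h6)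
      (Subgroup.card_le_of_le fun x hx => (H77.HN.mem_fixList.mp hx).1)
    rw [ordR_eq]
    exact Nat.le_mul_of_pos_right _ Nat.card_pos
  have hpos : 0 < ordR ls := Nat.pos_of_ne_zero fun e => by rw [e] at h2; norm_num at h2
  refine Nat.le_of_mul_le_mul_right ?_ hpos
  calc (setting.stab i).index * ordR ls
      ≤ (setting.stab i).index * Nat.card (setting.stab i) := Nat.mul_le_mul_left _ h7
    _ = size * ordR ls := by rw [Subgroup.index_mul_card, card_NN, h2]

/-- the seven sizes in the order of the certificate -/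
def sizes : List ℕ := [1, 15180, 3400320, 32643072, 28336, 54405120, 82575360]

theorem index_le_size : ∀ i < 7, (setting.stab i).index ≤ sizes.getD i 0 := by
  intro i hi
  interval_cases i
  · rw [stab_zero, Subgroup.index_top]; exact le_rfl
  · exact stab_index levels1_ok
  · exact stab_index levels2_ok
  · exact stab_index levels3_ok
  · exact stab_index levels4_ok
  · exact stab_index levels5_ok
  · exact stab_index levels6_ok

end H94.J4
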