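import Mathlib
import Cfsg.Agent.H84.J4N.Instance
import Cfsg.Agent.H84.J4N.Twist
import Cfsg.Agent.H94.J4.Setting
import Cfsg.Agent.H94.J4.Data.Twist
import Cfsg.Agent.H96.J4Simple.Main

/-!
The map of the model to the presented group and conjugation by t on the letters of the stabiliser.
-/

set_option autoImplicit false
set_option maxRecDepth 100000

namespace H94.J4

open H54.J4 (Pres gA gB toJ jRels)
open H84.J4N (jSetup jT pv lv twistFix twistMove)
open H84.J4N.Setup (bits)
open H96.J4Simple (G4)
open H77.HN (evw)

/-- exclusive or of the basis masks at the listed bits -/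
def foldBits (l : List (Fin 11)) : ℕ := l.foldr (fun k m => 2 ^ (k : ℕ) ^^^ m) 0

theorem prod_bv : ∀ l : List (Fin 11), (l.map bv).prod = vec (foldBits l) := by
  intro l
  induction l with
  | nil => exact vec_zero.symm
  | cons k l ih =>
    rw [List.map_cons, List.prod_cons, ih, ← vec_two_pow, ← vec_xor]
    rfl

/-- the basis elements, numbered -/
noncomputable def eFun (j : ℕ) : G4 := if h : j < 11 then jSetup.e ⟨j, h⟩ else 1

theorem e_eFun (j : Fin 11) : jSetup.e j = eFun j := by rw [eFun, dif_pos j.2]

theorem prod_bits {m : ℕ} (hm : foldBits (bits m) = m) :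
    ((bits m).map jSetup.e).prod = maskProd eFun m 11 := by
  have hb : ∀ j : Fin 11, jSetup.eHom (bv j) = jSetup.e j := jSetup.eHom_single
  have e1 : (bits m).map jSetup.e = ((bits m).map bv).map jSetup.eHom := by
    rw [List.map_map]
    exact List.map_congr_left fun k _ => (hb k).symm
  rw [e1, ← map_list_prod, prod_bv, hm,
    map_vec (h := eFun) (fun j => (hb j).trans (e_eFun j))]

theorem mat_bits : ∀ j < 11, foldBits (bits (colsX.getD j 0)) = colsX.getD j 0 ∧
    foldBits (bits (colsY.getD j 0)) = colsY.getD j 0 := by decide +kernel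

theorem mat_same : colsX = H84.J4N.matX ∧ colsY = H84.J4N.matY := by decide +kernel

/-- the model maps to the presented group -/
noncomputable def iota : NN →* G4 :=
  liftN toJ jSetup.e jSetup.e_sq jSetup.e_comm eFun e_eFun
    (fun j => by
      rw [← prod_bits (mat_bits j j.2).1, mat_same.1, ← jSetup.e_conj_x j]
      have hp : (toJ gA)⁻¹ = toJ gA := inv_eq_of_mul_eq_one_right (by
        rw [← map_mul, H54.J4.gA_sq, map_one])
      show toJ gA * jSetup.e j * (toJ gA)⁻¹ = (toJ gA)⁻¹ * jSetup.e j * toJ gA
      rw [hp])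
    (fun j => by
      rw [← prod_bits (mat_bits j j.2).2, mat_same.2, ← jSetup.e_conj_y j]
      show toJ gB * jSetup.e j * (toJ gB)⁻¹ = (toJ gB⁻¹)⁻¹ * jSetup.e j * toJ gB⁻¹
      rw [map_inv, inv_inv])

theorem iota_inr (p : Pres) : iota (SemidirectProduct.inr p) = toJ p := liftN_inr p

theorem iota_inl (j : Fin 11) : iota (SemidirectProduct.inl (bv j)) = jSetup.e j := liftN_inl j

/-- the subgroup generated by x, y and s is the image -/
theorem iota_range : iota.range = H54.J4.Lower.jN := by
  have h1 : H54.J4.Lower.jN = jSetup.nSub := H84.J4N.jSetup_nSub.symm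
  rw [h1, H84.J4N.Setup.nSub_eq, MonoidHom.range_eq_map, ← closure_gen14, MonoidHom.map_closure]
  have h3 : gen14 3 = SemidirectProduct.inl (bv 0) := gen14_vec 0
  simp only [Set.image_insert_eq, Set.image_singleton, gen14_zero, gen14_one, h3, iota_inr,
    iota_inl, H84.J4N.Setup.e_zero]
  show Subgroup.closure {toJ gA, toJ gB, jSetup.s} = Subgroup.closure {toJ gA, toJ gB⁻¹, jSetup.s}
  apply le_antisymm <;> rw [Subgroup.closure_le] <;> rintro _ (rfl | rfl | rfl)
  · exact Subgroup.subset_closure (Or.inl rfl)
  · have h : toJ gB⁻¹ ∈ Subgroup.closure ({toJ gA, toJ gB⁻¹, jSetup.s} : Set G4) :=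
      Subgroup.subset_closure (Or.inr (Or.inl rfl))
    simpa using inv_mem h
  · exact Subgroup.subset_closure (Or.inr (Or.inr rfl))
  · exact Subgroup.subset_closure (Or.inl rfl)
  · rw [map_inv]; exact inv_mem (Subgroup.subset_closure (Or.inr (Or.inl rfl)))
  · exact Subgroup.subset_closure (Or.inr (Or.inr rfl))

theorem map_maskProd {G H : Type*} [Group G] [Group H] (f : G →* H) (h : ℕ → G) (m : ℕ) :
    ∀ k, f (maskProd h m k) = maskProd (fun j => f (h j)) m k := by
  intro k
  induction k with
  | zero => exact map_one f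
  | succ k ih =>
    rw [maskProd, map_mul, ih, maskProd]
    congr 1
    split <;> simp

theorem maskProd_congr {G : Type*} [Group G] {f g : ℕ → G} (m : ℕ) :
    ∀ k, (∀ j < k, f j = g j) → maskProd f m k = maskProd g m k := by
  intro k
  induction k with
  | zero => intro _; rfl
  | succ k ih =>
    intro h
    rw [maskProd, maskProd, ih (fun j hj => h j (by omega)), h k (by omega)]

theorem iota_mask {m : ℕ} (hm : foldBits (bits m) = m) :
    iota (evw gen14 (maskWord m 11)) = jSetup.em m := by
  rw [evw_maskWord, map_maskProd, H84.J4N.Setup.em, prod_bits hm]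
  refine maskProd_congr m 11 fun j hj => ?_
  rw [show gen14 (j + 3) = SemidirectProduct.inl (bv ⟨j, hj⟩) from gen14_vec ⟨j, hj⟩, iota_inl,
    e_eFun]

/-- the letters of a word of the small presentation -/
def revLetter : ℕ → ℕ
  | 0 => 0
  | 1 => 2
  | _ => 1

/-- the word of a word of the small presentation -/
def revWord (z : List ℕ) : List ℕ := (z.map revLetter).reverse

theorem evw_revWord : ∀ z, evw gen14 (revWord z) = SemidirectProduct.inr (pv z) := by
  intro z
  induction z with
  | nil => simp [revWord]
  | cons c z ih =>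
    have e : revWord (c :: z) = revWord z ++ [revLetter c] := by simp [revWord]
    rw [e, H77.HN.evw_append, ih, H77.HN.evw_singleton, H84.J4N.pv_cons, map_mul]
    congr 1
    rcases c with _ | _ | c
    · rfl
    · show gen14 2 = SemidirectProduct.inr gB⁻¹
      rw [gen14_two, inv_eq_of_mul_eq_one_right ((mul_assoc _ _ _).symm.trans H54.J4.gB_cube)]
    · exact gen14_one

/-- pairs of elements exchanged by conjugation with t -/
noncomputable def exch : Subgroup (NN × NN) where
  carrier := {p | jT * iota p.1 = iota p.2 * jT}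
  one_mem' := by simp
  mul_mem' := fun {a b} ha hb => by
    simp only [Set.mem_setOf_eq, Prod.fst_mul, Prod.snd_mul, map_mul] at ha hb ⊢
    rw [← mul_assoc, ha, mul_assoc, hb, mul_assoc]
  inv_mem' := fun {a} ha => by
    simp only [Set.mem_setOf_eq, Prod.fst_inv, Prod.snd_inv, map_inv] at ha ⊢
    rw [eq_inv_mul_iff_mul_eq, ← mul_assoc, ← ha, mul_inv_cancel_right]

/-- a primary pair as elements -/
noncomputable def pairEl (p : List ℕ × List ℕ) : NN × NN := (evw gen14 p.1, evw gen14 p.2)

/-- the word of the second commuting generator -/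
def h2Word : List ℕ := [1, 0, 1, 0, 2, 0, 2, 0, 1, 0, 1, 0, 1]

theorem prim_eq : Data.prim = [([0], [0]), (revWord h2Word, revWord h2Word)] ++
    twistFix.map (fun p => (maskWord p.2.1 11, maskWord p.2.1 11)) ++
    twistMove.map (fun p => (maskWord p.2.1 11, revWord p.2.2.2 ++ maskWord p.2.1 11)) := by
  decide +kernel

theorem twist_masks : (∀ p ∈ twistFix, foldBits (bits p.2.1) = p.2.1) ∧
    (∀ p ∈ twistMove, foldBits (bits p.2.1) = p.2.1) := by decide +kernel

theorem twist_lengths : twistFix.length = 3 ∧ twistMove.length = 6 := by decide +kernel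

theorem prim_mem : ∀ p ∈ Data.prim, pairEl p ∈ exch := by
  rw [prim_eq]
  simp only [List.forall_mem_append, List.forall_mem_cons, List.forall_mem_map, pairEl]
  refine ⟨⟨⟨?_, ?_, by simp⟩, ?_⟩, ?_⟩
  · show jT * iota (evw gen14 [0]) = iota (evw gen14 [0]) * jT
    rw [H77.HN.evw_singleton, gen14_zero, iota_inr]
    have h : toJ (pv [0]) * jT = jT * toJ (pv [0]) := jSetup.comm [0] (List.mem_cons_self)
    have e : pv [0] = gA := by simp [H84.J4N.pv_cons, lv]
    rw [e] at h
    exact h.symm
  · show jT * iota (evw gen14 (revWord h2Word)) = iota (evw gen14 (revWord h2Word)) * jT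
    rw [evw_revWord, iota_inr]
    exact (jSetup.comm h2Word (List.mem_cons_of_mem _ List.mem_cons_self)).symm
  · intro p hp
    show jT * iota (evw gen14 (maskWord p.2.1 11)) = iota (evw gen14 (maskWord p.2.1 11)) * jT
    rw [iota_mask (twist_masks.1 p hp)]
    obtain ⟨i, hi, rfl⟩ := List.getElem_of_mem hp
    have h := jSetup.t_em_fix ⟨i, twist_lengths.1 ▸ hi⟩
    rw [List.getD_eq_getElem _ _ hi] at h
    exact h
  · intro p hp
    show jT * iota (evw gen14 (maskWord p.2.1 11)) =
      iota (evw gen14 (revWord p.2.2.2 ++ maskWord p.2.1 11)) * jT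
    rw [H77.HN.evw_append, map_mul, iota_mask (twist_masks.2 p hp), evw_revWord, iota_inr]
    obtain ⟨i, hi, rfl⟩ := List.getElem_of_mem hp
    have h := jSetup.t_em_move ⟨i, twist_lengths.2 ▸ hi⟩
    rw [List.getD_eq_getElem _ _ hi] at h
    calc jT * jSetup.em twistMove[i].2.1
        = jT * jSetup.em twistMove[i].2.1 * (jT * jT) := by rw [H84.J4N.jT_sq, mul_one]
      _ = jT * jSetup.em twistMove[i].2.1 * jT * jT := (mul_assoc _ _ _).symm
      _ = _ := congrArg (· * jT) h

/-- the first components of a combination -/
def srcWord (u : List ℕ) : List ℕ := u.flatMap fun k => (Data.prim.getD k ([], [])).1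
/-- the second components of a combination -/
def dstWord (u : List ℕ) : List ℕ := u.flatMap fun k => (Data.prim.getD k ([], [])).2

theorem combo_mem : ∀ u : List ℕ, pairEl (srcWord u, dstWord u) ∈ exch := by
  intro u
  induction u with
  | nil =>
    have : pairEl (srcWord [], dstWord []) = 1 := rfl
    rw [this]; exact one_mem _
  | cons k u ih =>
    have hk : pairEl (Data.prim.getD k ([], [])) ∈ exch := by
      rcases Nat.lt_or_ge k Data.prim.length with h | h
      · rw [List.getD_eq_getElem _ _ h]; exact prim_mem _ (List.getElem_mem h)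
      · rw [List.getD_eq_default _ _ h]
        have : pairEl (([], []) : List ℕ × List ℕ) = 1 := rfl
        rw [this]; exact one_mem _
    have := mul_mem ih hk
    simpa [pairEl, srcWord, dstWord, List.flatMap_cons, Prod.mk_mul_mk] using this

theorem twist_check : ((List.range 15).all fun a =>
    (Data.twistWords.getD a []).all (fun k => Nat.blt k 11) &&
      H77.HN.agree cert.T cert.B (srcWord (Data.twistWords.getD a [])) [cert.hl.getD a 0] &&
      H77.HN.agree cert.T cert.B (dstWord (Data.twistWords.getD a []))
        [cert.phi (cert.hl.getD a 0)]) = true := by decide +kernel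

theorem prim_small : (Data.prim.all fun p =>
    p.1.all (fun a => Nat.blt a 14) && p.2.all (fun a => Nat.blt a 14)) = true := by decide +kernel

theorem hl_length : cert.hl.length = 15 := by decide +kernel

theorem evw_genAll_low : ∀ w : List ℕ, (∀ a ∈ w, a < 14) → evw genAll w = evw gen14 w := by
  intro w
  induction w with
  | nil => intro _; rfl
  | cons a w ih =>
    intro h
    simp only [List.mem_cons, forall_eq_or_imp] at h
    rw [H77.HN.evw_cons, H77.HN.evw_cons, ih h.2, genAll_low h.1]

/-- conjugation by t on the letters of the stabiliser of the point 0 -/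
theorem twist_hl : ∀ l ∈ cert.hl, jT * iota (genAll l) = iota (genAll (cert.phi l)) * jT := by
  intro l hl
  obtain ⟨a, ha, rfl⟩ := List.getElem_of_mem hl
  have h := List.all_eq_true.mp twist_check a (List.mem_range.mpr (hl_length ▸ ha))
  simp only [Bool.and_eq_true, List.all_eq_true, Nat.blt, Nat.ble_eq] at h
  obtain ⟨⟨hk, h1⟩, h2⟩ := h
  rw [List.getD_eq_getElem _ _ ha] at h1 h2
  have small : ∀ k, (∀ x ∈ (Data.prim.getD k ([], [])).1, x < 14) ∧
      ∀ x ∈ (Data.prim.getD k ([], [])).2, x < 14 := by
    intro k
    rcases Nat.lt_or_ge k Data.prim.length with h | h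
    · rw [List.getD_eq_getElem _ _ h]
      have := List.all_eq_true.mp prim_small _ (List.getElem_mem h)
      simp only [Bool.and_eq_true, List.all_eq_true, Nat.blt, Nat.ble_eq] at this
      exact this
    · rw [List.getD_eq_default _ _ h]; simp
  have e1 : genAll (cert.hl[a]) = evw gen14 (srcWord (Data.twistWords.getD a [])) := by
    have := repAll.evw_eq_of_agree exact_model.2 h1
    rw [H77.HN.evw_singleton, evw_genAll_low _ (fun x hx => by
      simp only [srcWord, List.mem_flatMap] at hx
      obtain ⟨k, -, hx⟩ := hx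
      exact (small k).1 x hx)] at this
    exact this.symm
  have e2 : genAll (cert.phi cert.hl[a]) = evw gen14 (dstWord (Data.twistWords.getD a [])) := by
    have := repAll.evw_eq_of_agree exact_model.2 h2
    rw [H77.HN.evw_singleton, evw_genAll_low _ (fun x hx => by
      simp only [dstWord, List.mem_flatMap] at hx
      obtain ⟨k, -, hx⟩ := hx
      exact (small k).2 x hx)] at this
    exact this.symm
  rw [e1, e2]
  exact combo_mem _

end H94.J4
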