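import Mathlib
import Cfsg.Agent.H94.J4.Twist

/-!
The relator words of the certificate hold in the presented group.
-/

set_option autoImplicit false
set_option maxRecDepth 100000

namespace H94.J4

open H54.J4 (Pres gA gB toJ jRels)
open H84.J4N (jSetup jT pv wi wLine wPi wU wS)
open H96.J4Simple (G4)
open H77.HN (evw)

/-- the value of a code -/
noncomputable def cval (c : ℕ) : G4 :=
  if c = 0 then jT else if c = 1 then jT⁻¹ else iota (genAll (c - 2))

/-- the relators up to rotation -/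
def baseRels : List (List ℕ) :=
  [[0, 0], [0, 86, 0, 86, 0, 86], [0, 87, 0, 88, 0, 87, 0, 88], [0, 89, 0, 89, 0, 90]]

theorem rels_rot : (Data.relTab.all fun w => baseRels.any fun o =>
    (List.range o.length).any fun k => decide (w = o.drop k ++ o.take k)) = true := by decide +kernel

theorem letter_words : H77.HN.agree cert.T cert.B [84] (revWord (wLine ++ [2] ++ wi wLine)) = true ∧
    H77.HN.agree cert.T cert.B [85] (revWord wU) = true ∧
    H77.HN.agree cert.T cert.B [86] (revWord (wi wPi ++ wi wU)) = true ∧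
    H77.HN.agree cert.T cert.B [87] (revWord (wS ++ [2] ++ wi wS)) = true ∧
    H77.HN.agree cert.T cert.B [88] (revWord (wi wS) ++ [3] ++ revWord (wS ++ [2])) = true := by
  decide +kernel

theorem revLetter_lt (z : List ℕ) : ∀ a ∈ revWord z, a < 14 := by
  intro a ha
  simp only [revWord, List.mem_reverse, List.mem_map] at ha
  obtain ⟨c, -, rfl⟩ := ha
  rcases c with _ | _ | c <;> simp [revLetter]

theorem iota_letter {l : ℕ} {z : List ℕ}
    (h : H77.HN.agree cert.T cert.B [l] (revWord z) = true) : iota (genAll l) = toJ (pv z) := by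
  have e := repAll.evw_eq_of_agree exact_model.2 h
  rw [H77.HN.evw_singleton, evw_genAll_low _ (revLetter_lt z), evw_revWord] at e
  rw [e, iota_inr]

/-- the value of the letter of the second cube -/
theorem iota_last : iota (genAll 88) = toJ (pv (wS ++ [2])) * jSetup.s * toJ (pv (wi wS)) := by
  obtain ⟨-, -, -, -, h⟩ := letter_words
  have e := repAll.evw_eq_of_agree exact_model.2 h
  rw [H77.HN.evw_singleton, evw_genAll_low _ (fun a ha => by
    simp only [List.mem_append, List.mem_singleton] at ha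
    rcases ha with (ha | rfl) | ha
    · exact revLetter_lt _ a ha
    · norm_num
    · exact revLetter_lt _ a ha), H77.HN.evw_append, H77.HN.evw_append, H77.HN.evw_singleton,
    evw_revWord, evw_revWord] at e
  rw [e, map_mul, map_mul, iota_inr, iota_inr,
    show gen14 3 = SemidirectProduct.inl (bv 0) from gen14_vec 0, iota_inl, jSetup.e_zero]
  group

theorem pv_two_inv : toJ (pv [2]) = (toJ (pv [1]))⁻¹ := by
  rw [← map_inv]
  simp [H84.J4N.pv_cons, H84.J4N.lv]

theorem cube_word {G : Type*} [Group G] {Y c t : G} (ht : t⁻¹ = t)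
    (h : (Y * (c⁻¹ * t * c)) ^ 3 = 1) :
    c * Y⁻¹ * c⁻¹ * t * (c * Y⁻¹ * c⁻¹) * t * (c * Y⁻¹ * c⁻¹) * t = 1 := by
  have h' : (c⁻¹ * t * c * Y⁻¹) ^ 3 = 1 :=
    calc (c⁻¹ * t * c * Y⁻¹) ^ 3 = ((Y * (c⁻¹ * t⁻¹ * c)) ^ 3)⁻¹ := by
                    (simp only [pow_succ, pow_zero, one_mul]; group)
      _ = 1 := by rw [ht, h, inv_one]
  calc c * Y⁻¹ * c⁻¹ * t * (c * Y⁻¹ * c⁻¹) * t * (c * Y⁻¹ * c⁻¹) * t
      = c * (c⁻¹ * t * c)⁻¹ * (c⁻¹ * t * c * Y⁻¹) ^ 3 * (c⁻¹ * t * c) * c⁻¹ := by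
                    (simp only [pow_succ, pow_zero, one_mul]; group)
    _ = 1 := by rw [h']; group

theorem square_word {G : Type*} [Group G] {P U t : G} (ht : t⁻¹ = t)
    (h : (P * t * (U⁻¹ * t * U)) ^ 2 = 1) :
    P⁻¹ * U⁻¹ * t * U * t * (P⁻¹ * U⁻¹) * t * U * t = 1 := by
  have h' : (U⁻¹ * t * U * t * P⁻¹) ^ 2 = 1 :=
    calc (U⁻¹ * t * U * t * P⁻¹) ^ 2 = ((P * t⁻¹ * (U⁻¹ * t⁻¹ * U)) ^ 2)⁻¹ := by
                    (simp only [pow_succ, pow_zero, one_mul]; group)
      _ = 1 := by rw [ht, h, inv_one]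
  calc P⁻¹ * U⁻¹ * t * U * t * (P⁻¹ * U⁻¹) * t * U * t
      = P⁻¹ * (U⁻¹ * t * U * t * P⁻¹) ^ 2 * P := by
                    (simp only [pow_succ, pow_zero, one_mul]; group)
    _ = 1 := by rw [h']; group

theorem cube_word_s {G : Type*} [Group G] {Y c t s : G} (ht : t⁻¹ = t)
    (h : (Y * (c⁻¹ * t * c)) ^ 3 = s) (hss : s * s = 1) :
    c * Y⁻¹ * s * c⁻¹ * t * (c * Y⁻¹ * c⁻¹) * t * (c * Y⁻¹ * c⁻¹) * t = 1 := by
  have h' : (c⁻¹ * t * c * Y⁻¹) ^ 3 = s :=
    calc (c⁻¹ * t * c * Y⁻¹) ^ 3 = ((Y * (c⁻¹ * t⁻¹ * c)) ^ 3)⁻¹ := by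
                    (simp only [pow_succ, pow_zero, one_mul]; group)
      _ = s := by rw [ht, h]; exact inv_eq_of_mul_eq_one_right hss
  calc c * Y⁻¹ * s * c⁻¹ * t * (c * Y⁻¹ * c⁻¹) * t * (c * Y⁻¹ * c⁻¹) * t
      = c * Y⁻¹ * s * (c⁻¹ * t * c * Y⁻¹) ^ 3 * Y * c⁻¹ := by
                    (simp only [pow_succ, pow_zero, one_mul]; group)
    _ = c * Y⁻¹ * (s * s) * Y * c⁻¹ := by rw [h']; group
    _ = 1 := by rw [hss]; group

theorem base_one : ∀ o ∈ baseRels, evw cval o = 1 := by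
  obtain ⟨hA, hM0, hM1, hD, -⟩ := letter_words
  have eA := iota_letter hA
  have eM0 := iota_letter hM0
  have eM1 := iota_letter hM1
  have eD := iota_letter hD
  have eDt := iota_last
  simp only [H84.J4N.pv_append, H84.J4N.pv_wi, map_mul, map_inv, pv_two_inv] at eA eM1 eD eDt
  have hA3 := jSetup.relA
  have hB2 := jSetup.relB
  have hs : (toJ (pv [1]) * ((toJ (pv wS))⁻¹ * jT * toJ (pv wS))) ^ 3 = jSetup.s := rfl
  have hss := jSetup.s_sq
  have ht : jT⁻¹ = jT := inv_eq_of_mul_eq_one_right H84.J4N.jT_sq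
  simp only [show jSetup.φ = toJ from rfl, show jSetup.t = jT from rfl] at hA3 hB2
  simp only [baseRels, List.forall_mem_cons]
  refine ⟨?_, ?_, ?_, ?_, by simp⟩
  · simp [cval, H84.J4N.jT_sq]
  · simp only [H77.HN.evw_cons, H77.HN.evw_nil, cval, Nat.reduceEqDiff, if_true, if_false,
      Nat.reduceSub, one_mul, eA]
    exact cube_word ht hA3
  · simp only [H77.HN.evw_cons, H77.HN.evw_nil, cval, Nat.reduceEqDiff, if_true, if_false,
      Nat.reduceSub, one_mul, eM0, eM1]
    exact square_word ht hB2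
  · simp only [H77.HN.evw_cons, H77.HN.evw_nil, cval, Nat.reduceEqDiff, if_true, if_false,
      Nat.reduceSub, one_mul, eD, eDt]
    exact cube_word_s ht hs hss

theorem evw_rot {w o : List ℕ} {k : ℕ} (ho : evw cval o = 1) (h : w = o.drop k ++ o.take k) :
    evw cval w = 1 := by
  subst h
  rw [← List.take_append_drop k o, H77.HN.evw_append] at ho
  rw [H77.HN.evw_append, eq_inv_of_mul_eq_one_left ho, mul_inv_cancel]

theorem rels_one : ∀ w ∈ cert.rels, evw cval w = 1 := by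
  intro w hw
  have h := List.all_eq_true.mp rels_rot w hw
  simp only [List.any_eq_true, decide_eq_true_eq] at h
  obtain ⟨o, ho, k, -, hk⟩ := h
  exact evw_rot (base_one o ho) hk

end H94.J4
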