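import Mathlib
import Cfsg.Agent.H94.J4.Relators
import Cfsg.Agent.H94.J4.Rules
import Cfsg.Agent.H96.J4Simple.Cover
import Cfsg.Agent.H96.J4Simple.Index

/-!
Seven double cosets of the subgroup generated by x, y and s cover the presented fourth Janko
group: the inputs of `H96.J4Simple.isJ4_of_cover`.
-/

set_option autoImplicit false
set_option maxRecDepth 100000

namespace H94.J4

open H54.J4 (Pres gA gB toJ jRels jX jY)
open H84.J4N (jSetup jT)
open H96.J4Simple (G4 dsize)
open H77.HN (evw)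

theorem gen_top : Subgroup.closure (insert jT (Set.range iota)) = ⊤ := by
  rw [eq_top_iff, ← PresentedGroup.closure_range_of, Subgroup.closure_le]
  rintro _ ⟨g, rfl⟩
  cases g
  · refine Subgroup.subset_closure (Set.mem_insert_of_mem _ ⟨SemidirectProduct.inr gA, ?_⟩)
    exact (iota_inr gA).trans H54.J4.toJ_gA
  · refine Subgroup.subset_closure (Set.mem_insert_of_mem _ ⟨SemidirectProduct.inr gB⁻¹, ?_⟩)
    rw [iota_inr, map_inv, H54.J4.toJ_gB, inv_inv]
    rfl
  · exact Subgroup.subset_closure (Set.mem_insert _ _)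

/-- the presented group over the model -/
noncomputable def amalgam : H23.DC.Amalgam setting G4 where
  ι := iota
  gt := jT
  twist := twist_hl
  gen_top := gen_top
  rels := rels_one

theorem valid : amalgam.Valid Data.treeList Data.known10 := by
  have h0 : amalgam.Valid Data.treeList Data.known0 := by
    rw [← start_ok]
    exact amalgam.init_valid _ _ tree_shape
  have hg : amalgam.gt * amalgam.gt = 1 := H84.J4N.jT_sq
  have h1 := rulesTo_sound amalgam hg h0 rules0_ok
  have h2 := rulesTo_sound amalgam hg h1 rules1_ok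
  have h3 := rulesTo_sound amalgam hg h2 rules2_ok
  have h4 := rulesTo_sound amalgam hg h3 rules3_ok
  have h5 := rulesTo_sound amalgam hg h4 rules4_ok
  have h6 := rulesTo_sound amalgam hg h5 rules5_ok
  have h7 := rulesTo_sound amalgam hg h6 rules6_ok
  have h8 := rulesTo_sound amalgam hg h7 rules7_ok
  have h9 := rulesTo_sound amalgam hg h8 rules8_ok
  exact rulesTo_sound amalgam hg h9 rules9_ok

/-- the order of the orbits by size -/
def ordSize : Fin 7 → ℕ := ![0, 1, 4, 2, 3, 5, 6]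

theorem ordSize_lt : ∀ i, ordSize i < 7 := by decide

theorem ordSize_sizes : ∀ i, sizes.getD (ordSize i) 0 = dsize i := by decide

theorem ordSize_surj : ∀ j : Fin 7, ∃ i : Fin 7, ordSize i = (j : ℕ) := by decide

/-- the base cosets -/
noncomputable def q (i : Fin 7) : G4 ⧸ iota.range := amalgam.q Data.treeList (ordSize i)

/-- the stabilisers -/
noncomputable def St (i : Fin 7) : Subgroup NN := setting.stab (ordSize i)

theorem hfix : ∀ i, ∀ g ∈ St i, iota g • q i = q i := fun i _ hg =>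
  amalgam.stab_fix valid done_ok (ordSize_lt i) hg

theorem hidx : ∀ i, (St i).index ≤ dsize i := fun i =>
  ordSize_sizes i ▸ index_le_size _ (ordSize_lt i)

theorem hcov : ∀ c, ∃ i, ∃ n : NN, iota n • q i = c := by
  intro c
  obtain ⟨j, hj, n, hn⟩ := amalgam.reached_all valid done_ok (show 0 < 7 by norm_num) c
  obtain ⟨i, hi⟩ := ordSize_surj ⟨j, hj⟩
  refine ⟨i, n, ?_⟩
  rw [q, hi]
  exact hn

/-- order and simplicity of the presented group -/
theorem isJ4 : Cfsg.IsJ4 Cfsg.Spor.J4 :=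
  H96.J4Simple.isJ4_of_cover iota iota_range card_NN.le q St hfix hidx hcov

/-- representatives of the base cosets -/
noncomputable def qRep : Fin 7 → G4 :=
  ![1, jT, jT * (jY⁻¹ * jX * jY * jX * jX * jSetup.s * jX * jY⁻¹) * jT, jT * jY⁻¹ * jT,
    jT * (jY⁻¹ * jX * jY⁻¹) * jT, jT * jY⁻¹ * (jT * jY⁻¹ * jT),
    jT * (jY⁻¹ * jX) * (jT * jY⁻¹ * jT)]

/-- one tree edge -/
theorem tree_coset {k : ℕ} {g : G4} (hk : k ∈ Data.treeList) (hm : cert.mw k = [])
    (hg : amalgam.q Data.treeList (cert.src k) = QuotientGroup.mk g) :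
    amalgam.q Data.treeList (cert.dst k) =
      QuotientGroup.mk (jT * iota (evw genAll (cert.nw k)) * g) := by
  obtain ⟨-, -, h⟩ := amalgam.tree_edge Data.treeList tree_shape k hk
  change (jT * iota (evw genAll (cert.nw k))) • amalgam.q Data.treeList (cert.src k) =
    iota (evw genAll (cert.mw k)) • amalgam.q Data.treeList (cert.dst k) at h
  rw [hm, H77.HN.evw_nil, map_one, one_smul, hg] at h
  exact h.symm

theorem edge_vals : (0 ∈ Data.treeList ∧ cert.mw 0 = [] ∧ cert.nw 0 = [] ∧ cert.src 0 = 0 ∧ cert.dst 0 = 1) ∧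
    (12 ∈ Data.treeList ∧ cert.mw 12 = [] ∧ cert.nw 12 = [1] ∧ cert.src 12 = 1 ∧ cert.dst 12 = 2) ∧
    (26 ∈ Data.treeList ∧ cert.mw 26 = [] ∧ cert.nw 26 = [1, 0, 1] ∧ cert.src 26 = 1 ∧ cert.dst 26 = 3) ∧
    (58 ∈ Data.treeList ∧ cert.mw 58 = [] ∧ cert.nw 58 = [6, 1, 0, 2, 0, 1] ∧ cert.src 58 = 1 ∧
      cert.dst 58 = 4) ∧
    (68 ∈ Data.treeList ∧ cert.mw 68 = [] ∧ cert.nw 68 = [1] ∧ cert.src 68 = 2 ∧ cert.dst 68 = 5) ∧
    (108 ∈ Data.treeList ∧ cert.mw 108 = [] ∧ cert.nw 108 = [0, 1] ∧ cert.src 108 = 2 ∧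
      cert.dst 108 = 6) := by decide +kernel

theorem iota_letters : iota (gen14 0) = jX ∧ iota (gen14 1) = jY⁻¹ ∧ iota (gen14 2) = jY ∧
    iota (gen14 6) = jY * jX * jSetup.s * jX * jY⁻¹ := by
  refine ⟨?_, ?_, ?_, ?_⟩
  · rw [gen14_zero, iota_inr]; exact H54.J4.toJ_gA
  · rw [gen14_one, iota_inr]; exact H54.J4.toJ_gB
  · rw [gen14_two, iota_inr, map_mul, H54.J4.toJ_gB]
    rw [← mul_inv_rev, inv_eq_iff_mul_eq_one]
    exact H54.J4.jY_cube
  · rw [show gen14 6 = SemidirectProduct.inl (bv 3) from gen14_vec 3, iota_inl, H84.J4N.Setup.e]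
    rw [show H84.J4N.bw.getD (3 : Fin 11).val [] = [0, 2] from rfl]
    show (toJ (H84.J4N.pv [0, 2]))⁻¹ * jSetup.s * toJ (H84.J4N.pv [0, 2]) = _
    simp only [H84.J4N.pv_cons, H84.J4N.pv_nil, H84.J4N.lv, mul_one, map_mul, H54.J4.toJ_gA,
      H54.J4.toJ_gB, mul_inv_rev, inv_inv, H54.J4.jX_inv]
    group

/-- the base cosets as words -/
theorem q_eq (i : Fin 7) : q i = QuotientGroup.mk (qRep i) := by
  obtain ⟨⟨a1, b1, c1, d1, f1⟩, ⟨a2, b2, c2, d2, f2⟩, ⟨a3, b3, c3, d3, f3⟩, ⟨a4, b4, c4, d4, f4⟩,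
    ⟨a5, b5, c5, d5, f5⟩, ⟨a6, b6, c6, d6, f6⟩⟩ := edge_vals
  obtain ⟨i0, i1, i2, i6⟩ := iota_letters
  have g0 : amalgam.q Data.treeList 0 = QuotientGroup.mk 1 := amalgam.q_zero _
  have g1 : amalgam.q Data.treeList 1 = QuotientGroup.mk jT := by
    have h := tree_coset a1 b1 (by rw [d1]; exact g0)
    rw [f1, c1] at h
    simpa using h
  have g2 : amalgam.q Data.treeList 2 = QuotientGroup.mk (jT * jY⁻¹ * jT) := by
    have h := tree_coset a2 b2 (by rw [d2]; exact g1)
    rw [f2, c2, H77.HN.evw_singleton, genAll_low (by norm_num), i1] at h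
    exact h
  have g3 : amalgam.q Data.treeList 3 = QuotientGroup.mk (jT * (jY⁻¹ * jX * jY⁻¹) * jT) := by
    have h := tree_coset a3 b3 (by rw [d3]; exact g1)
    rw [f3, c3, evw_genAll_low _ (by simp)] at h
    simp only [H77.HN.evw_cons, H77.HN.evw_nil, one_mul, map_mul, i0, i1] at h
    exact h
  have g4 : amalgam.q Data.treeList 4 =
      QuotientGroup.mk (jT * (jY⁻¹ * jX * jY * jX * jX * jSetup.s * jX * jY⁻¹) * jT) := by
    have h := tree_coset a4 b4 (by rw [d4]; exact g1)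
    rw [f4, c4, evw_genAll_low _ (by simp)] at h
    simp only [H77.HN.evw_cons, H77.HN.evw_nil, one_mul, map_mul, i0, i1, i2, i6] at h
    rw [h]
    congr 1
    group
  have g5 : amalgam.q Data.treeList 5 = QuotientGroup.mk (jT * jY⁻¹ * (jT * jY⁻¹ * jT)) := by
    have h := tree_coset a5 b5 (by rw [d5]; exact g2)
    rw [f5, c5, H77.HN.evw_singleton, genAll_low (by norm_num), i1] at h
    exact h
  have g6 : amalgam.q Data.treeList 6 = QuotientGroup.mk (jT * (jY⁻¹ * jX) * (jT * jY⁻¹ * jT)) := by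
    have h := tree_coset a6 b6 (by rw [d6]; exact g2)
    rw [f6, c6, evw_genAll_low _ (by simp)] at h
    simp only [H77.HN.evw_cons, H77.HN.evw_nil, one_mul, map_mul, i0, i1] at h
    exact h
  fin_cases i
  · exact g0
  · exact g1
  · exact g4
  · exact g2
  · exact g3
  · exact g5
  · exact g6

end H94.J4
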