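import Mathlib
import Cfsg.Agent.H23.DC.Cert
import Cfsg.Agent.H94.J4.Data.Small
import Cfsg.Agent.H94.J4.Data.Big
import Cfsg.Agent.H94.J4.Data.Words
import Cfsg.Agent.H94.J4.Data.Tree0
import Cfsg.Agent.H94.J4.Data.Tree1
import Cfsg.Agent.H94.J4.Data.Tree2
import Cfsg.Agent.H94.J4.Data.Tree3
import Cfsg.Agent.H94.J4.Data.Tree4
import Cfsg.Agent.H94.J4.Data.Tree5
import Cfsg.Agent.H94.J4.Data.Tree6

/-!
The tables and the certificate of a double coset enumeration for the fourth Janko group.
-/

set_option autoImplicit false

namespace H94.J4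

open H77.HN (frc runK)

/-- read a packed table -/
noncomputable def look (tab : List (List ℕ)) (w : ℕ) (p : ℕ) : ℕ :=
  frc p fun p => Nat.land (Nat.shiftRight ((tab.getD (p / 2048) []).getD (p / 256 % 8) 0)
    (w * (p % 256))) (2 ^ w - 1)

/-- a letter on the 1518 signed octads -/
noncomputable def T18 (l p : ℕ) : ℕ :=
  bif Nat.blt l Data.numTab then look (Data.small.getD l []) 11 p else p

/-- a tabulated letter on the 15180 points -/
noncomputable def T15 (l p : ℕ) : ℕ :=
  bif Nat.blt l Data.numTab then look (Data.big.getD l []) 14 p else p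

/-- the triple of a point -/
noncomputable def triK (k : ℕ) : ℕ := look Data.tri 33 k

/-- the basic word of a letter -/
def wordOf (l : ℕ) : List ℕ := Data.wordTab.getD l []

/-- a letter on the points -/
noncomputable def T (l p : ℕ) : ℕ :=
  bif Nat.blt l Data.numTab then T15 l p else runK T15 (wordOf l) p

/-- the tree of an orbit -/
def treeSel : ℕ → List (List ℕ)
  | 0 => Data.tree0
  | 1 => Data.tree1
  | 2 => Data.tree2
  | 3 => Data.tree3
  | 4 => Data.tree4
  | 5 => Data.tree5
  | _ => Data.tree6

/-- the packed entry of a point in a tree -/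
noncomputable def entry (i c : ℕ) : ℕ := look (treeSel i) 37 c

/-- the certificate -/
noncomputable def cert : H23.DC.Cert where
  T := T
  B := [0, 2137, 3899, 9710, 8917, 6062]
  np := 15180
  r := 7
  ne := Data.numEdges
  sg i := Data.sgTab.getD i []
  hl := Data.hlTab
  phi l := Data.phiTab.getD l 0
  orb i c := entry i c % 256
  par i c := entry i c / 256 % 16384
  plet i c := entry i c / 4194304 % 128
  dep i c := entry i c / 536870912
  src k := Data.srcTab.getD k 0
  dst k := Data.dstTab.getD k 0
  nw k := Data.nwTab.getD k []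
  mw k := Data.mwTab.getD k []
  root k := Data.rootTab.getD k 0
  rels := Data.relTab

end H94.J4
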