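import Mathlib
import Cfsg.Agent.H77.HN.Checks
import Cfsg.Agent.H94.J4.Tables

/-!
Checks that tie the tables of the letters together.
-/

set_option autoImplicit false

namespace H94.J4

open H77.HN (allBelow runK frc)

/-- the entries of a packed triple -/
def triA (t : ℕ) : ℕ := t % 2048
/-- the second entry -/
def triB (t : ℕ) : ℕ := t / 2048 % 2048
/-- the third entry -/
def triC (t : ℕ) : ℕ := t / 4194304

/-- a number is an entry of a triple -/
noncomputable def inTri (t x : ℕ) : Bool :=
  Nat.beq x (triA t) || Nat.beq x (triB t) || Nat.beq x (triC t)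

/-- the triples are increasing -/
noncomputable def triEntry (k : ℕ) : Bool :=
  frc (triK k) fun t => Nat.blt (triA t) (triB t) && Nat.blt (triB t) (triC t) &&
    Nat.blt (triC t) 1518 && (Nat.beq k 0 || !Nat.beq t (triK 0)) &&
    (Nat.ble k 1 || Nat.blt (triK (k - 1)) t)

/-- a letter moves the entries of a triple into the triple of the image -/
noncomputable def linkEntry (l k : ℕ) : Bool :=
  frc (T15 l k) fun k' => Nat.blt k' 15180 && frc (triK k') fun t' => frc (triK k) fun t =>
    inTri t' (T18 l (triA t)) && inTri t' (T18 l (triB t)) && inTri t' (T18 l (triC t))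

/-- the small table of a letter is that of its word -/
noncomputable def smallOK (l : ℕ) : Bool :=
  allBelow (fun p => Nat.beq (T18 l p) (runK T18 (wordOf l) p)) 0 1518 &&
    (wordOf l).all (fun a => Nat.blt a 14)

/-- two letters undo each other on the signed octads -/
noncomputable def undo18 (l l' : ℕ) : Bool := H77.HN.undoOK T18 l l' 1518

/-- two words agree on the signed octads -/
noncomputable def same18 (u v : List ℕ) : Bool :=
  allBelow (fun p => Nat.beq (runK T18 u p) (runK T18 v p)) 0 1518

/-- the word of a mask in the basis letters -/
def maskWord (m : ℕ) : ℕ → List ℕ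
  | 0 => []
  | k + 1 => maskWord m k ++ (if m.testBit k then [k + 3] else [])

end H94.J4
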